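import Cfsg.Agent.Lib.Transfer.Criteria
import Cfsg.Agent.Lib.TwoGroup.Recognition

/-!
# Generalized quaternion Sylow subgroups and sections isomorphic to `SL(2,3)`
-/

set_option autoImplicit false

namespace Cfsg.Agent.Lib.Transfer

open Subgroup
open scoped Pointwise

universe u

local notation "SL23" => Matrix.SpecialLinearGroup (Fin 2) (ZMod 3)

theorem eq_one_of_odd_pow_eq_one {M : Type u} [Monoid M] {x : M} {r k : ℕ} (hr : Odd r)
    (h1 : x ^ 2 ^ k = 1) (h2 : x ^ r = 1) : x = 1 :=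
  orderOf_eq_one_iff.mp (Nat.eq_one_of_dvd_coprimes
    ((Nat.coprime_two_left.mpr hr).pow_left k) (orderOf_dvd_of_pow_eq_one h1)
    (orderOf_dvd_of_pow_eq_one h2))

/-- An automorphism of odd order of a subgroup of a generalized quaternion group is trivial,
unless the subgroup is a quaternion group of order 8 permuted transitively. -/
theorem mulAut_subgroup_quaternion {m : ℕ} [NeZero m] (hm : ∃ n, m = 2 ^ n)
    (S : Subgroup (QuaternionGroup m))
    (σ : MulAut S) (hσ : Odd (orderOf σ)) (hne : σ ≠ 1) :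
    ∃ i j : S, orderOf i = 4 ∧ j * j = i * i ∧ j * i * j⁻¹ = i⁻¹ ∧ j ∉ zpowers i ∧
      (∀ s : S, s ∈ zpowers i ∨ j * s ∈ zpowers i) ∧ σ i = j ∧
      (σ j = i * j ∨ σ j = j * i) ∧ σ ^ 3 = 1 := by
  obtain ⟨n, hn⟩ := hm
  set a₁ : QuaternionGroup m := QuaternionGroup.a 1 with ha₁
  have hmemA : ∀ i : ZMod (2 * m), QuaternionGroup.a i ∈ zpowers a₁ := fun i =>
    ⟨i.val, by
      show a₁ ^ (i.val : ℤ) = _
      rw [zpow_natCast, ha₁, QuaternionGroup.a_one_pow, ZMod.natCast_val, ZMod.cast_id]⟩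
  have hcases : ∀ x : QuaternionGroup m, x ∈ zpowers a₁ ∨ ∃ i, x = QuaternionGroup.xa i := fun x =>
    match x with
    | .a i => Or.inl (hmemA i)
    | .xa i => Or.inr ⟨i, rfl⟩
  have hxa : ∀ i, QuaternionGroup.xa i ∉ zpowers a₁ := by
    intro i h
    obtain ⟨k, hk⟩ := h
    obtain ⟨l, hl⟩ : ∃ l : ℕ, a₁ ^ l = QuaternionGroup.xa i := by
      have hk' : a₁ ^ k = QuaternionGroup.xa i := hk
      exact mem_powers_iff_mem_zpowers.mpr ⟨k, hk'⟩
    rw [ha₁, QuaternionGroup.a_one_pow] at hl
    cases hl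
  set A := (zpowers a₁).subgroupOf S with hA
  have hpow : ∀ x : S, ∃ k, x ^ 2 ^ k = 1 := by
    have h : IsPGroup 2 (QuaternionGroup m) := IsPGroup.of_card (n := n + 2) (by
      rw [Nat.card_eq_fintype_card, QuaternionGroup.card, hn]; ring)
    exact h.to_subgroup S
  have hcyc : IsCyclic A := by
    have hle : A.map S.subtype ≤ zpowers a₁ := by
      rintro _ ⟨x, hx, rfl⟩; exact hx
    haveI : IsCyclic (A.map S.subtype) := isCyclic_of_injective _ (inclusion_injective hle)
    exact (A.equivMapOfInjective S.subtype (subtype_injective S)).isCyclic.mpr inferInstance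
  set r := orderOf σ with hr
  have hσr : ∀ x : S, (σ ^ r) x = x := fun x => by rw [hr, pow_orderOf_eq_one]; rfl
  have hodd2 : ∀ x : S, (σ ^ 2) x = x → σ x = x := by
    intro x hx
    obtain ⟨t, ht⟩ := hσ
    have h2 : σ ^ 2 ∈ MulAction.stabilizer (MulAut S) x := hx
    have h3 : (σ ^ r) ∈ MulAction.stabilizer (MulAut S) x := hσr x
    have h4 : σ ∈ MulAction.stabilizer (MulAut S) x := by
      have := mul_mem (inv_mem (pow_mem h2 t)) h3
      rwa [ht, ← pow_mul, pow_succ, inv_mul_cancel_left] at this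
    exact h4
  -- a generator of an invariant cyclic subgroup is fixed
  have hfixcyc : ∀ c : S, σ c ∈ zpowers c → σ c = c := by
    intro c hc
    obtain ⟨k, hk⟩ := hc
    have hk' : c ^ k = σ c := hk
    let τ : Subgroup (MulAut S) := MulAction.stabilizer (MulAut S) c
    have hiter : ∀ t : ℕ, (σ ^ t) c = c ^ (k ^ t) := by
      intro t
      induction t with
      | zero => rw [pow_zero, pow_zero, zpow_one]; rfl
      | succ t ih =>
        rw [pow_succ, MulAut.mul_apply, ← hk', map_zpow, ih, ← zpow_mul, pow_succ]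
    obtain ⟨e, he⟩ := IsPGroup.iff_orderOf.mp (fun x => hpow x : IsPGroup 2 S) c
    rw [← hk']
    rcases Nat.eq_zero_or_pos e with rfl | hepos
    · rw [pow_zero, orderOf_eq_one_iff] at he
      rw [he, one_zpow]
    have h1 : c ^ (k ^ r) = c := by rw [← hiter]; exact hσr c
    have hk1 : ((k : ZMod (2 ^ e)) ^ r) = 1 := by
      have : c ^ (k ^ r) = c ^ (1 : ℤ) := by rw [h1, zpow_one]
      rw [zpow_eq_zpow_iff_modEq, he] at this
      have h2 := (ZMod.intCast_eq_intCast_iff _ _ _).mpr this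
      rwa [Int.cast_pow, Int.cast_one] at h2
    have hu : IsUnit (k : ZMod (2 ^ e)) := IsUnit.of_pow_eq_one hk1 (Nat.pos_iff_ne_zero.mp hσ.pos)
    have hu1 : hu.unit = 1 := by
      have hc1 : Nat.card (ZMod (2 ^ e))ˣ = 2 ^ (e - 1) := by
        rw [Nat.card_eq_fintype_card, ZMod.card_units_eq_totient,
          Nat.totient_prime_pow Nat.prime_two hepos]
        simp
      have hc2 : hu.unit ^ 2 ^ (e - 1) = 1 := by rw [← hc1]; exact pow_card_eq_one'
      exact eq_one_of_odd_pow_eq_one hσ hc2 (Units.ext (by simpa using hk1))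
    have hk2 : ((k : ℤ) : ZMod (2 ^ e)) = ((1 : ℤ) : ZMod (2 ^ e)) := by
      rw [Int.cast_one, ← hu.unit_spec, hu1, Units.val_one]
    rw [ZMod.intCast_eq_intCast_iff, ← he, ← zpow_eq_zpow_iff_modEq, zpow_one] at hk2
    exact hk2
  obtain ⟨⟨c, hcA⟩, hc⟩ := hcyc.exists_generator
  have hgenA : ∀ x ∈ A, x ∈ zpowers c := by
    intro x hx
    obtain ⟨k, hk⟩ := hc ⟨x, hx⟩
    exact ⟨k, congrArg Subtype.val hk⟩
  by_cases hSA : ∀ x : S, x ∈ A
  · exfalso
    refine hne (MulEquiv.ext fun x => ?_)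
    obtain ⟨k, rfl⟩ := hgenA x (hSA x)
    show σ (c ^ k) = c ^ k
    rw [map_zpow, hfixcyc c (hgenA _ (hSA _))]
  push Not at hSA
  obtain ⟨b, hb⟩ := hSA
  have hout : ∀ x : S, x ∉ A → ∃ i, (x : QuaternionGroup m) = QuaternionGroup.xa i := fun x hx =>
    (hcases x).resolve_left hx
  obtain ⟨ib, hib⟩ := hout b hb
  have hbA : ∀ x : S, x ∉ A → b * x ∈ A := by
    intro x hx
    obtain ⟨ix, hix⟩ := hout x hx
    show ((b * x : S) : QuaternionGroup m) ∈ zpowers a₁
    rw [Subgroup.coe_mul, hib, hix, QuaternionGroup.xa_mul_xa]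
    exact hmemA _
  have hord : ∀ x : S, x ∉ A → orderOf x = 4 := by
    intro x hx
    obtain ⟨ix, hix⟩ := hout x hx
    rw [← Subgroup.orderOf_coe, hix, QuaternionGroup.orderOf_xa]
  have hsqA : b * b ∈ A := hbA b hb
  -- `σ` does not fix the cyclic part unless trivial
  have hnoinv : σ c ∈ zpowers c → False := by
    intro hcc
    have hc' := hfixcyc c hcc
    have hAfix : ∀ x ∈ A, σ x = x := by
      intro x hx
      obtain ⟨k, rfl⟩ := hgenA x hx
      show σ (c ^ k) = c ^ k
      rw [map_zpow, hc']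
    have hsb : σ b ∉ A := fun h => hb (σ.injective (hAfix _ h) ▸ h)
    have hd : b * σ b ∈ A := hbA _ hsb
    obtain ⟨d, hdA, hd'⟩ : ∃ d ∈ A, σ b = b * d :=
      ⟨b⁻¹ * σ b, by
        have := mul_mem (inv_mem hsqA) hd
        simpa [mul_assoc] using this, by group⟩
    have hiter : ∀ t : ℕ, (σ ^ t) b = b * d ^ t := by
      intro t
      induction t with
      | zero => rw [pow_zero, pow_zero, mul_one]; rfl
      | succ t ih =>
        rw [pow_succ', MulAut.mul_apply, ih, map_mul, map_pow, hAfix d hdA, hd', pow_succ',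
          mul_assoc]
    have hd1 : d = 1 := by
      have := (hiter r).symm.trans (hσr b)
      rw [mul_eq_left] at this
      obtain ⟨k, hk⟩ := hpow d
      exact eq_one_of_odd_pow_eq_one hσ hk this
    refine hne (MulEquiv.ext fun x => ?_)
    show σ x = x
    by_cases hx : x ∈ A
    · exact hAfix x hx
    · have h := hAfix _ (hbA x hx)
      rw [map_mul, hd', hd1, mul_one] at h
      exact mul_left_cancel h
  have hc4 : orderOf c = 4 := by
    obtain ⟨e, he⟩ := IsPGroup.iff_orderOf.mp (fun x => hpow x : IsPGroup 2 S) c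
    by_contra hne4
    by_cases hbig : 4 < orderOf c
    · apply hnoinv
      refine hgenA _ (by_contra fun h => ?_)
      have := hord _ h
      rw [MulEquiv.orderOf_eq] at this
      omega
    · -- `S` is then cyclic, generated by `b`
      have hle : orderOf c ≤ 2 := by
        have h4 : orderOf c < 4 := by omega
        rw [he] at h4 ⊢
        rcases e with _ | _ | e
        · norm_num
        · norm_num
        · rw [pow_succ, pow_succ] at h4
          have : 1 ≤ 2 ^ e := Nat.one_le_two_pow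
          omega
      have hc2 : zpowers (b * b) = zpowers c := by
        refine eq_of_le_of_card_ge (zpowers_le.mpr (hgenA _ hsqA)) ?_
        rw [Nat.card_zpowers, Nat.card_zpowers]
        refine hle.trans ?_
        rw [← sq, orderOf_pow, hord b hb]
        norm_num
      have hall : ∀ x : S, x ∈ zpowers b := by
        intro x
        have hA' : ∀ y ∈ A, y ∈ zpowers b := fun y hy =>
          zpowers_le.mpr (mul_mem (mem_zpowers b) (mem_zpowers b)) (hc2 ▸ hgenA y hy)
        by_cases hx : x ∈ A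
        · exact hA' x hx
        · have := mul_mem (inv_mem (mem_zpowers b)) (hA' _ (hbA x hx))
          rwa [inv_mul_cancel_left] at this
      have hσb := hfixcyc b (hall _)
      refine hne (MulEquiv.ext fun x => ?_)
      obtain ⟨k, rfl⟩ := hall x
      show σ (b ^ k) = b ^ k
      rw [map_zpow, hσb]
  -- the quaternion group of order eight
  set z := c * c with hz
  have hz2 : z * z = 1 := by
    have h : c ^ 4 = 1 := hc4 ▸ pow_orderOf_eq_one c
    rw [hz, ← mul_assoc]
    simpa [pow_succ] using h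
  have hz1 : z ≠ 1 := by
    intro h
    have : orderOf c ∣ 2 := orderOf_dvd_of_pow_eq_one (by rw [sq]; exact h)
    rw [hc4] at this
    norm_num at this
  have hAel : ∀ x ∈ A, x = 1 ∨ x = c ∨ x = z ∨ x = c⁻¹ := by
    intro x hx
    obtain ⟨k, rfl⟩ := hgenA x hx
    show c ^ k = 1 ∨ c ^ k = c ∨ c ^ k = z ∨ c ^ k = c⁻¹
    rw [← zpow_mod_orderOf, hc4]
    have h1 := Int.emod_nonneg k (show ((4 : ℕ) : ℤ) ≠ 0 by norm_num)
    have h2 := Int.emod_lt_of_pos k (show (0 : ℤ) < ((4 : ℕ) : ℤ) by norm_num)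
    set q := k % ((4 : ℕ) : ℤ)
    have : q = 0 ∨ q = 1 ∨ q = 2 ∨ q = 3 := by omega
    rcases this with h | h | h | h <;> rw [h]
    · exact Or.inl (zpow_zero c)
    · exact Or.inr (Or.inl (zpow_one c))
    · exact Or.inr (Or.inr (Or.inl (zpow_two c)))
    · refine Or.inr (Or.inr (Or.inr (eq_inv_of_mul_eq_one_left ?_)))
      rw [← zpow_add_one, show (3 : ℤ) + 1 = ((4 : ℕ) : ℤ) by norm_num, zpow_natCast, ← hc4,
        pow_orderOf_eq_one]
  have hinvert : ∀ x : S, x ∉ A → x * c * x⁻¹ = c⁻¹ := by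
    intro x hx
    obtain ⟨ix, hix⟩ := hout x hx
    refine Subtype.ext ?_
    obtain ⟨k, hk⟩ := (hcA : (c : QuaternionGroup m) ∈ zpowers a₁)
    have hk' : a₁ ^ k = (c : QuaternionGroup m) := hk
    rw [Subgroup.coe_mul, Subgroup.coe_mul, Subgroup.coe_inv, Subgroup.coe_inv, hix, ← hk',
      ← conj_zpow, Cfsg.Agent.Lib.TwoGroup.quaternion_conj, inv_zpow]
  have hsq : ∀ x : S, x ∉ A → x * x = z := by
    intro x hx
    obtain ⟨ix, hix⟩ := hout x hx
    have h1 : x * x ∈ A := by
      show ((x * x : S) : QuaternionGroup m) ∈ zpowers a₁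
      rw [Subgroup.coe_mul, hix, QuaternionGroup.xa_mul_xa]
      exact hmemA _
    have h2 : orderOf (x * x) = 2 := by
      rw [← sq, orderOf_pow, hord x hx]
      rfl
    rcases hAel _ h1 with h | h | h | h
    · rw [h, orderOf_one] at h2; norm_num at h2
    · rw [h, hc4] at h2; norm_num at h2
    · exact h
    · rw [h, orderOf_inv, hc4] at h2; norm_num at h2
  set j := σ c with hj
  have hjA : j ∉ A := fun h => hnoinv (hgenA _ h)
  have hjz : j * j = z := hsq j hjA
  have hσz : σ z = z := by rw [hz, map_mul, ← hj, hjz]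
  have hfull : ∀ x : S, x ∈ zpowers c ∨ j * x ∈ zpowers c := by
    intro x
    by_cases hx : x ∈ A
    · exact Or.inl (hgenA x hx)
    · refine Or.inr (hgenA _ ?_)
      obtain ⟨ix, hix⟩ := hout x hx
      obtain ⟨ij, hij⟩ := hout j hjA
      show ((j * x : S) : QuaternionGroup m) ∈ zpowers a₁
      rw [Subgroup.coe_mul, hij, hix, QuaternionGroup.xa_mul_xa]
      exact hmemA _
  have hji : j * c = c⁻¹ * j := mul_inv_eq_iff_eq_mul.mp (hinvert j hjA)
  have hci : c⁻¹ = c * z := by
    refine inv_eq_of_mul_eq_one_right ?_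
    have h := hz2
    rw [hz] at h ⊢
    simpa [mul_assoc] using h
  have hjj : j⁻¹ = j * z := inv_eq_of_mul_eq_one_right (by rw [← mul_assoc, hjz, hz2])
  have hσj : σ j = c * j ∨ σ j = j * c := by
    have hσj' : σ j * σ j = z := by rw [← map_mul, hjz, hσz]
    -- `σ j` lies neither in `⟨c⟩` nor in `⟨c⟩`-cosets fixed up to sign
    have hne1 : σ j ≠ c ∧ σ j ≠ c⁻¹ := by
      have key : (σ ^ 2) c = c → False := fun h =>
        hnoinv (by show σ c ∈ zpowers c; rw [hodd2 c h]; exact mem_zpowers c)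
      have key2 : σ j = c⁻¹ → (σ ^ 2) ((σ ^ 2) c) = c := by
        intro h
        have : (σ ^ 2) c = c⁻¹ := by rw [sq, MulAut.mul_apply, ← hj, h]
        rw [this, map_inv, this, inv_inv]
      refine ⟨fun h => key (by rw [sq, MulAut.mul_apply, ← hj, h]), fun h => key ?_⟩
      have h4 : (σ ^ 2) ((σ ^ 2) c) = c := key2 h
      obtain ⟨t, ht⟩ := hσ
      have h4' : σ ^ 4 ∈ MulAction.stabilizer (MulAut S) c := by
        show (σ ^ (2 + 2)) c = c
        rw [pow_add, MulAut.mul_apply, h4]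
      have hr' : σ ^ r ∈ MulAction.stabilizer (MulAut S) c := hσr c
      rcases Nat.even_or_odd t with ⟨u, hu⟩ | ⟨u, hu⟩
      · have hmem := mul_mem (inv_mem (pow_mem h4' u)) hr'
        rw [← pow_mul, ht, hu, show 2 * (u + u) + 1 = 4 * u + 1 by ring, pow_succ,
          inv_mul_cancel_left] at hmem
        show (σ ^ 2) c = c
        exact (MulAction.stabilizer (MulAut S) c).pow_mem hmem 2
      · have hmem := mul_mem (pow_mem h4' (u + 1)) (inv_mem hr')
        rw [← pow_mul, ht, hu, show 4 * (u + 1) = 2 * (2 * u + 1) + 1 + 1 by ring,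
          pow_succ' σ (2 * (2 * u + 1) + 1), mul_inv_cancel_right] at hmem
        show (σ ^ 2) c = c
        exact (MulAction.stabilizer (MulAut S) c).pow_mem hmem 2
    have hσjA : σ j ∉ A := by
      intro h
      rcases hAel _ h with h' | h' | h' | h'
      · rw [h', mul_one] at hσj'; exact hz1 hσj'.symm
      · exact hne1.1 h'
      · rw [h', hz2] at hσj'; exact hz1 hσj'.symm
      · exact hne1.2 h'
    have hjx : j * σ j ∈ A := by
      obtain ⟨ix, hix⟩ := hout _ hσjA
      obtain ⟨ij, hij⟩ := hout j hjA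
      show ((j * σ j : S) : QuaternionGroup m) ∈ zpowers a₁
      rw [Subgroup.coe_mul, hij, hix, QuaternionGroup.xa_mul_xa]
      exact hmemA _
    rcases hAel _ hjx with h | h | h | h
    · exfalso
      have : σ j = j⁻¹ := (inv_eq_of_mul_eq_one_right h).symm
      refine hnoinv ?_
      have h2 : (σ ^ 2) j = j := by rw [sq, MulAut.mul_apply, this, map_inv, this, inv_inv]
      have h3 := hodd2 j h2
      rw [this] at h3
      exact absurd (by rw [← hjz]; nth_rewrite 2 [← h3]; exact mul_inv_cancel j) hz1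
    · refine Or.inl ?_
      calc σ j = j⁻¹ * (j * σ j) := (inv_mul_cancel_left _ _).symm
        _ = j * z * c := by rw [h, hjj]
        _ = j * (z * c) := mul_assoc _ _ _
        _ = j * c⁻¹ := by rw [hci, hz]; group
        _ = c * j := by
          rw [mul_inv_eq_iff_eq_mul, mul_assoc, hji, mul_inv_cancel_left]
    · exfalso
      have h1 : σ j = j := mul_left_cancel (h.trans hjz.symm)
      exact hnoinv (by
        have h2 : σ c = c := σ.injective h1
        show σ c ∈ zpowers c
        rw [h2]; exact mem_zpowers c)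
    · refine Or.inr ?_
      calc σ j = j⁻¹ * (j * σ j) := (inv_mul_cancel_left _ _).symm
        _ = j * z * (c * z) := by rw [h, hjj, hci]
        _ = j * c * (z * z) := by rw [hz]; group
        _ = j * c := by rw [hz2, mul_one]
  refine ⟨c, j, hc4, hjz, by rw [hinvert j hjA], fun h => hjA ?_, hfull, hj.symm, hσj, ?_⟩
  · exact (zpowers_le.mpr hcA) h
  · have hσ3c : (σ ^ 3) c = c := by
      rw [show (σ ^ 3) c = σ (σ (σ c)) from rfl, ← hj]
      rcases hσj with h | h
      · rw [h, map_mul, ← hj, h, ← mul_assoc, hji, mul_assoc, hjz, hci, mul_assoc, hz2, mul_one]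
      · rw [h, map_mul, ← hj, h, hji, mul_assoc, hjz, hci, mul_assoc, hz2, mul_one]
    have hσ3j : (σ ^ 3) j = j := by
      have := congrArg σ hσ3c
      rw [← MulAut.mul_apply, (Commute.self_pow σ 3).eq, MulAut.mul_apply] at this
      exact this
    refine MulEquiv.ext fun x => ?_
    have hzp : ∀ y ∈ zpowers c, (σ ^ 3) y = y := by
      rintro y ⟨k, rfl⟩
      show (σ ^ 3) (c ^ k) = c ^ k
      rw [map_zpow, hσ3c]
    show (σ ^ 3) x = x
    rcases hfull x with hx | hx
    · exact hzp x hx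
    · have h := hzp _ hx
      rw [map_mul, hσ3j] at h
      exact mul_left_cancel h

variable {G : Type u} [Group G] [Finite G]

/-- The element of order three and the quaternion generators in `SL(2,3)`. -/
theorem exists_sl23_gens : ∃ u I J : SL23, u ^ 3 = 1 ∧ I ^ 4 = 1 ∧ J * J = I ^ 2 ∧
    J * I * J⁻¹ = I⁻¹ ∧ u * I * u⁻¹ = J ∧ u * J * u⁻¹ = I * J ∧ u ≠ 1 ∧ I ^ 2 ≠ 1 ∧
    I ^ 0 ≠ J ∧ I ^ 1 ≠ J ∧ I ^ 2 ≠ J ∧ I ^ 3 ≠ J ∧ Fintype.card SL23 = 24 := by
  decide +kernel

theorem exists_section_of_action (Q : Subgroup G) (g : G) (i j : Q) (hg : Odd (orderOf g))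
    (h4 : orderOf i = 4) (hjj : j * j = i * i) (hji : j * i * j⁻¹ = i⁻¹) (hjn : j ∉ zpowers i)
    (hfull : ∀ s : Q, s ∈ zpowers i ∨ j * s ∈ zpowers i)
    (h1 : g * i * g⁻¹ = (j : G)) (h2 : g * j * g⁻¹ = ((i * j : Q) : G)) :
    ∃ (H K : Subgroup G) (_ : (K.subgroupOf H).Normal),
      Nonempty ((H ⧸ K.subgroupOf H) ≃* SL23) := by
  obtain ⟨u, I, J, hu, hI, hJJ, hJI, huI, huJ, hu1, hI2, hJ0, hJ1, hJ2, hJ3, hcard⟩ :=
    exists_sl23_gens
  have hI4 : orderOf I = 2 * 2 := by
    have := orderOf_eq_prime_pow (p := 2) (n := 1) (x := I) (by simpa using hI2) (by simpa using hI)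
    simpa using this
  set P : G × SL23 := ((i : G), I) with hP
  set R : G × SL23 := ((j : G), J) with hR
  set U : G × SL23 := (g, u) with hU
  have hi4 : (i : G) ^ (2 * 2) = 1 := by
    rw [show (2 * 2) = orderOf i by rw [h4], ← SubmonoidClass.coe_pow, pow_orderOf_eq_one]
    rfl
  have ha : P ^ (2 * 2) = 1 := Prod.ext hi4 hI
  have hb : R * R = P ^ 2 := Prod.ext
    ((congrArg Subtype.val hjj).trans (sq (i : G)).symm) hJJ
  have hba : R * P * R⁻¹ = P⁻¹ := Prod.ext (congrArg Subtype.val hji :) hJI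
  set W := (Cfsg.Agent.Lib.TwoGroup.quaternionHom P R ha hb hba).range with hW
  have hWc : W = closure {P, R} := Cfsg.Agent.Lib.TwoGroup.quaternionHom_range P R ha hb hba
  have hPW : P ∈ W := hWc ▸ subset_closure (Set.mem_insert _ _)
  have hRW : R ∈ W := hWc ▸ subset_closure (Set.mem_insert_of_mem _ rfl)
  have hUP : U * P * U⁻¹ = R := Prod.ext h1 huI
  have hUR : U * R * U⁻¹ = P * R := Prod.ext h2 huJ
  have hUN : zpowers U ≤ normalizer (W : Set (G × SL23)) := by
    rw [zpowers_le, ← map_conj_eq_iff]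
    refine eq_of_le_of_card_ge ?_ (card_map_of_injective
      (show Function.Injective (MulAut.conj U).toMonoidHom from (MulAut.conj U).injective)).ge
    rw [hWc, MonoidHom.map_closure, closure_le, ← hWc]
    rintro _ ⟨x, hx, rfl⟩
    rcases hx with rfl | rfl
    · show U * P * U⁻¹ ∈ W
      rw [hUP]; exact hRW
    · show U * R * U⁻¹ ∈ W
      rw [hUR]; exact mul_mem hPW hRW
  set S := zpowers U ⊔ W with hS
  -- the graph is the graph of a map
  have hW1 : ∀ w ∈ W, w.1 ∈ Q := by
    intro w hw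
    rw [hWc] at hw
    exact (closure_le (Q.comap (MonoidHom.fst G SL23))).mpr
      (by rintro _ (rfl | rfl); exacts [i.2, j.2]) hw
  have hinjW : ∀ w ∈ W, w.1 = 1 → w = 1 := by
    rintro _ ⟨q, rfl⟩ hq
    have hiord : orderOf (i : G) = 2 * 2 := by rw [Subgroup.orderOf_coe, h4]
    have hjnot : (j : G) ∉ zpowers (i : G) := by
      rintro ⟨k, hk⟩
      exact hjn ⟨k, Subtype.ext hk⟩
    have hinj := Cfsg.Agent.Lib.TwoGroup.quaternionHom_injective hiord
      ((congrArg Subtype.val hjj).trans (sq (i : G)).symm) (congrArg Subtype.val hji :) hjnot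
    have hq' : q = 1 := by
      refine hinj ?_
      rw [map_one]
      refine Eq.trans ?_ hq
      cases q <;> simp [Cfsg.Agent.Lib.TwoGroup.quaternionHom, Cfsg.Agent.Lib.TwoGroup.zmodPow, P, R]
    rw [hq', map_one]
  have hg3 : 3 ∣ orderOf g := by
    by_contra h
    have hcop : (orderOf g).Coprime 3 := ((Nat.prime_three).coprime_iff_not_dvd.mpr h).symm
    obtain ⟨t, ht⟩ := exists_pow_eq_self_of_coprime hcop.symm
    -- then `g` is a power of `g ^ 3`, which centralizes `Q`
    have hU3 : U ^ 3 = (g ^ 3, 1) := Prod.ext rfl hu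
    have hU3' : U ^ 3 * P * (U ^ 3)⁻¹ = P := by
      have e : U * (P * R) * U⁻¹ = R * (P * R) := by
        calc U * (P * R) * U⁻¹ = (U * P * U⁻¹) * (U * R * U⁻¹) := by group
          _ = R * (P * R) := by rw [hUP, hUR]
      calc U ^ 3 * P * (U ^ 3)⁻¹ = U * (U * (U * P * U⁻¹) * U⁻¹) * U⁻¹ := by
            simp only [pow_three, mul_inv_rev, mul_assoc]
        _ = R * (P * R) := by rw [hUP, hUR, e]
        _ = R * P * R⁻¹ * (R * R) := by group
        _ = P := by rw [hba, hb]; group
    have hc : Commute (g ^ 3) (i : G) := by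
      have := congrArg Prod.fst hU3'
      rw [hU3] at this
      exact mul_inv_eq_iff_eq_mul.mp this
    have hgi : Commute g (i : G) := ht ▸ hc.pow_left t
    rw [hgi.eq, mul_inv_cancel_right] at h1
    exact hjn (Subtype.ext h1 ▸ mem_zpowers i)
  have hinjS : ∀ s ∈ S, s.1 = 1 → s = 1 := by
    intro s hs h0
    rw [← SetLike.mem_coe, hS, coe_mul_of_left_le_normalizer_right _ _ hUN] at hs
    obtain ⟨_, ⟨k, rfl⟩, w, hw, rfl⟩ := hs
    have hgk : g ^ k * w.1 = 1 := h0
    have hgQ : g ^ k ∈ Q := by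
      rw [eq_inv_of_mul_eq_one_left hgk]
      exact inv_mem (hW1 w hw)
    have hgk1 : g ^ k = 1 := by
      have ho1 : orderOf (g ^ k) ∣ orderOf g := orderOf_dvd_of_pow_eq_one (by
        rw [← zpow_natCast, ← zpow_mul, mul_comm, zpow_mul, zpow_natCast, pow_orderOf_eq_one,
          one_zpow])
      have ho2 : orderOf (g ^ k) ∣ 8 := by
        have hsub : ∀ q : Q, q ^ 8 = 1 := by
          intro q
          have e4 : i ^ 4 = 1 := h4 ▸ pow_orderOf_eq_one i
          have hzi : ∀ y ∈ zpowers i, y ^ 4 = 1 := by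
            rintro y ⟨l, rfl⟩
            show (i ^ l) ^ 4 = 1
            rw [← zpow_natCast, ← zpow_mul, mul_comm, zpow_mul, zpow_natCast, e4, one_zpow]
          rcases hfull q with h | h
          · rw [show 8 = 4 * 2 from rfl, pow_mul, hzi q h, one_pow]
          · obtain ⟨l, hl⟩ := h
            have hq : q = j⁻¹ * i ^ l := by rw [show i ^ l = j * q from hl]; group
            have hconj : j * i ^ l * j⁻¹ = (i ^ l)⁻¹ := by rw [← conj_zpow, hji, inv_zpow]
            have hsq : q * q = (j * j)⁻¹ := by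
              rw [hq]
              calc j⁻¹ * i ^ l * (j⁻¹ * i ^ l) = j⁻¹ * j⁻¹ * ((j * i ^ l * j⁻¹) * i ^ l) := by group
                _ = (j * j)⁻¹ := by rw [hconj]; group
            rw [show 8 = 2 * 4 from rfl, pow_mul, sq, hsq, hjj, inv_pow, ← sq, ← pow_mul,
              show 2 * 4 = 4 * 2 from rfl, pow_mul, e4, one_pow, inv_one]
        exact orderOf_dvd_of_pow_eq_one (congrArg Subtype.val (hsub ⟨g ^ k, hgQ⟩) :)
      refine orderOf_eq_one_iff.mp (Nat.eq_one_of_dvd_coprimes ?_ ho2 ho1)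
      rw [show (8 : ℕ) = 2 ^ 3 from rfl]
      exact (Nat.coprime_two_left.mpr hg).pow_left 3
    have hw1 : w = 1 := hinjW w hw (by rw [hgk1, one_mul] at hgk; exact hgk)
    have huk : u ^ k = 1 := by
      have hd : (orderOf g : ℤ) ∣ k := orderOf_dvd_iff_zpow_eq_one.mpr hgk1
      exact orderOf_dvd_iff_zpow_eq_one.mp ((Int.natCast_dvd_natCast.mpr
        ((orderOf_dvd_of_pow_eq_one hu).trans hg3)).trans hd)
    subst hw1
    show U ^ k * 1 = 1
    rw [mul_one]
    exact Prod.ext hgk1 huk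
  let π₁ : S →* G := (MonoidHom.fst G SL23).comp S.subtype
  let π₂ : S →* SL23 := (MonoidHom.snd G SL23).comp S.subtype
  have hπ₁ : Function.Injective π₁ := by
    rw [← MonoidHom.ker_eq_bot_iff, eq_bot_iff]
    exact fun s hs => mem_bot.mpr (Subtype.ext (hinjS s s.2 hs))
  have hIm : I ∈ π₂.range := ⟨⟨P, mem_sup_right hPW⟩, rfl⟩
  have hJm : J ∈ π₂.range := ⟨⟨R, mem_sup_right hRW⟩, rfl⟩
  have hum : u ∈ π₂.range := ⟨⟨U, mem_sup_left (mem_zpowers U)⟩, rfl⟩
  have hπ₂ : Function.Surjective π₂ := by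
    rw [← MonoidHom.range_eq_top]
    refine eq_top_of_card_eq _ (Nat.dvd_antisymm (card_subgroup_dvd_card _) ?_)
    rw [Nat.card_eq_fintype_card (α := SL23), hcard, show 24 = 3 * 8 from rfl]
    refine Nat.Coprime.mul_dvd_of_dvd_of_dvd (by norm_num) ?_ ?_
    · haveI := Fact.mk Nat.prime_three
      have h3 : Nat.card (zpowers u) = 3 := by rw [Nat.card_zpowers, orderOf_eq_prime hu hu1]
      exact (dvd_of_eq h3.symm).trans (card_dvd_of_le (zpowers_le.mpr hum))
    · have hnot : J ∉ zpowers I := by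
        rintro ⟨k, hk⟩
        have hk' : I ^ k = J := hk
        have hq1 := Int.emod_nonneg k (show ((4 : ℕ) : ℤ) ≠ 0 by norm_num)
        have hq2 := Int.emod_lt_of_pos k (show (0 : ℤ) < ((4 : ℕ) : ℤ) by norm_num)
        rw [← zpow_mod_orderOf, hI4] at hk'
        change I ^ (k % ((4 : ℕ) : ℤ)) = J at hk'
        obtain ⟨q, hq⟩ := Int.eq_ofNat_of_zero_le hq1
        rw [hq] at hk' hq2
        rw [zpow_natCast] at hk'
        have hq3 : q < 4 := by exact_mod_cast hq2
        interval_cases q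
        · exact hJ0 hk'
        · exact hJ1 hk'
        · exact hJ2 hk'
        · exact hJ3 hk'
      rw [show (8 : ℕ) = 4 * 2 from rfl,
        ← Cfsg.Agent.Lib.TwoGroup.card_closure_quaternion hI4 hJJ hJI hnot]
      exact card_dvd_of_le ((closure_le _).mpr (by rintro _ (rfl | rfl) <;> assumption))
  let e : S ≃* π₁.range := MonoidHom.ofInjective hπ₁
  let φ : π₁.range →* SL23 := π₂.comp e.symm.toMonoidHom
  have hφ : Function.Surjective φ := hπ₂.comp e.symm.surjective
  have hself : (φ.ker.map π₁.range.subtype).subgroupOf π₁.range = φ.ker :=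
    comap_map_eq_self_of_injective (subtype_injective _) _
  haveI hn : ((φ.ker.map π₁.range.subtype).subgroupOf π₁.range).Normal := by
    rw [hself]; infer_instance
  refine ⟨π₁.range, φ.ker.map π₁.range.subtype, hn, ⟨?_⟩⟩
  exact (QuotientGroup.quotientMulEquivOfEq hself).trans
      (QuotientGroup.quotientKerEquivOfSurjective φ hφ)

theorem hasNormalPComplement_or_sl23 (T : Sylow 2 G) (n : ℕ)
    (hT : Nonempty ((T : Subgroup G) ≃* QuaternionGroup (2 ^ n))) :
    Cfsg.HasNormalPComplement 2 G ∨ ∃ (H K : Subgroup G) (_ : (K.subgroupOf H).Normal),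
      Nonempty ((H ⧸ K.subgroupOf H) ≃* SL23) := by
  haveI : Fact (Nat.Prime 2) := ⟨Nat.prime_two⟩
  refine or_iff_not_imp_left.mpr fun hnpc => ?_
  obtain ⟨e⟩ := hT
  rw [hasNormalPComplement_iff_locallyPTrivial] at hnpc
  have hnot : ¬ ∀ Q : Subgroup G, Q ≤ (T : Subgroup G) →
      ∀ g ∈ normalizer (Q : Set G), (orderOf g).Coprime 2 → g ∈ centralizer (Q : Set G) :=
    fun h => hnpc (locallyPTrivial_of_sylow T h)
  push Not at hnot
  obtain ⟨Q, hQT, g, hgN, hgo, hgC⟩ := hnot
  set f : Q →* QuaternionGroup (2 ^ n) := e.toMonoidHom.comp (inclusion hQT)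
  have hf : Function.Injective f := e.injective.comp (inclusion_injective hQT)
  set ι : Q ≃* f.range := MonoidHom.ofInjective hf
  set τ : MulAut Q := Q.normalizerMonoidHom ⟨g, hgN⟩ with hτ
  set σ : MulAut f.range := MulAut.congr ι τ with hσ
  have hodd : Odd (orderOf g) := Nat.coprime_two_right.mp hgo
  have hσo : Odd (orderOf σ) := by
    rw [hσ, (MulAut.congr ι).orderOf_eq, hτ]
    refine hodd.of_dvd_nat ?_
    rw [← Subgroup.orderOf_mk g hgN]
    exact orderOf_map_dvd _ _
  have hσne : σ ≠ 1 := by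
    intro h
    have hτ1 : τ = 1 := (MulEquiv.map_eq_one_iff _).mp h
    refine hgC (mem_centralizer_iff.mpr fun q hq => ?_)
    have : (τ ⟨q, hq⟩ : G) = q := by rw [hτ1]; rfl
    change g * q * g⁻¹ = q at this
    exact (mul_inv_eq_iff_eq_mul.mp this).symm
  haveI : NeZero (2 ^ n) := ⟨pow_ne_zero n two_ne_zero⟩
  obtain ⟨c, d, h4, hdd, hdc, hdn, hfull, hσc, hσd, hσ3⟩ :=
    mulAut_subgroup_quaternion ⟨n, rfl⟩ _ σ hσo hσne
  have hτap : ∀ x : Q, ι.symm (σ (ι x)) = τ x := fun x => by simp [hσ]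
  have hord : ∀ k : f.range, orderOf (ι.symm k) = orderOf k := fun k => ι.symm.orderOf_eq k
  have htr : ∀ {a b : f.range}, a ∈ zpowers b → ι.symm a ∈ zpowers (ι.symm b) := by
    rintro a b ⟨k, rfl⟩
    exact ⟨k, (map_zpow ι.symm b k).symm⟩
  have hconj : ∀ x : f.range, g * (ι.symm x : G) * g⁻¹ = (ι.symm (σ x) : G) := by
    intro x
    rw [← ι.apply_symm_apply x, hτap, ι.symm_apply_apply]
    rfl
  rcases hσd with hd | hd
  · refine exists_section_of_action Q g (ι.symm c) (ι.symm d) hodd (by rw [hord, h4])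
      (by rw [← map_mul, ← map_mul, hdd]) (by rw [← map_inv, ← map_mul, ← map_mul, hdc, map_inv])
      (fun h => hdn ?_) (fun s => ?_) (by rw [hconj, hσc]) (by rw [hconj, hd, map_mul])
    · obtain ⟨k, hk⟩ := h
      exact ⟨k, ι.symm.injective (by rw [map_zpow]; exact hk)⟩
    · rcases hfull (ι s) with h | h
      · exact Or.inl (by simpa using htr h)
      · exact Or.inr (by simpa using htr h)
  · -- the other orientation: replace `g` by `g⁻¹` and `d` by `d * c`
    set d' := d * c with hd'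
    have hcinv : d * c = c⁻¹ * d := mul_inv_eq_iff_eq_mul.mp hdc
    have hc4 : c * c * (c * c) = 1 := by
      have h : c ^ 4 = 1 := h4 ▸ pow_orderOf_eq_one c
      rw [← mul_assoc]
      simpa [pow_succ] using h
    have e1 : d' * d' = c * c := by
      calc d' * d' = d * c * (d * c) := rfl
        _ = d * c * (c⁻¹ * d) := by rw [hcinv]
        _ = d * d := by group
        _ = c * c := hdd
    have e2 : d' * c * d'⁻¹ = c⁻¹ := by
      calc d' * c * d'⁻¹ = d * (c * c * c⁻¹) * d⁻¹ := by rw [hd']; group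
        _ = d * c * d⁻¹ := by group
        _ = c⁻¹ := hdc
    have hinv : ∀ x : f.range, (g⁻¹ : G) * (ι.symm (σ x) : G) * (g⁻¹)⁻¹ = (ι.symm x : G) := by
      intro x
      rw [← hconj]; group
    have e3 : σ d' = c := by
      have h3 : (σ ^ 3) c = c := by rw [hσ3]; rfl
      rw [show (σ ^ 3) c = σ (σ (σ c)) from rfl, hσc, hd] at h3
      exact h3
    have e4 : σ (c * d') = d' := by
      rw [map_mul, hσc, e3]
    refine exists_section_of_action Q g⁻¹ (ι.symm c) (ι.symm d') (by rwa [orderOf_inv])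
      (by rw [hord, h4]) (by rw [← map_mul, ← map_mul, e1])
      (by rw [← map_inv, ← map_mul, ← map_mul, e2, map_inv])
      (fun h => hdn ?_) (fun s => ?_) ?_ ?_
    · obtain ⟨k, hk⟩ := h
      have hk' : d' ∈ zpowers c := ⟨k, ι.symm.injective (by rw [map_zpow]; exact hk)⟩
      exact (mul_mem_cancel_right (mem_zpowers c)).mp hk'
    · have hs := hfull (ι s)
      rcases hs with h | h
      · exact Or.inl (by simpa using htr h)
      · refine Or.inr ?_
        have h' : d' * ι s ∈ zpowers c := by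
          rw [hd', hcinv, mul_assoc]
          exact mul_mem (inv_mem (mem_zpowers c)) h
        simpa using htr h'
    · rw [← e3]
      exact hinv d'
    · rw [← map_mul]
      nth_rewrite 1 [← e4]
      exact hinv _

end Cfsg.Agent.Lib.Transfer
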