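import Cfsg.Agent.Lib.Transfer.Criteria
import Cfsg.Agent.Lib.Transfer.Abelian
import Cfsg.Agent.Lib.SZ.Card

/-!
# Normal complements of Hall subgroups and conjugacy of abelian Hall subgroups
-/

set_option autoImplicit false

namespace Cfsg.Agent.Lib.Transfer

open Subgroup
open scoped Pointwise

universe u

variable {G : Type u} [Group G]

theorem exists_sylow_le_of_not_dvd_index [Finite G] {p : ℕ} [Fact p.Prime] (H : Subgroup G)
    (h : ¬ p ∣ H.index) : ∃ R : Sylow p G, (R : Subgroup G) ≤ H := by
  let S : Sylow p H := default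
  have hidx : ¬ p ∣ ((S : Subgroup H).map H.subtype).index := by
    rw [index_map_subtype, (Fact.out : p.Prime).dvd_mul, not_or]
    exact ⟨S.not_dvd_index, h⟩
  refine ⟨IsPGroup.toSylow (S.2.map H.subtype) hidx, ?_⟩
  rw [IsPGroup.toSylow_coe]
  exact map_subtype_le _

theorem isMulCommutative_map_conj {A : Subgroup G} (hA : IsMulCommutative A) (g : G) :
    IsMulCommutative (A.map (MulAut.conj g).toMonoidHom) := by
  refine ⟨⟨fun a b => ?_⟩⟩
  obtain ⟨x, hx, hxa⟩ := a.2
  obtain ⟨y, hy, hyb⟩ := b.2
  refine Subtype.ext ?_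
  have h : x * y = y * x := congrArg Subtype.val (hA.1.1 ⟨x, hx⟩ ⟨y, hy⟩)
  rw [Subgroup.coe_mul, Subgroup.coe_mul, ← hxa, ← hyb, ← map_mul, ← map_mul, h]

/-- Abelian Hall subgroups of the same order are conjugate. -/
theorem conj_of_abelian_hall {G : Type u} [Group G] [Finite G] (H K : Subgroup G)
    (hH : IsMulCommutative H) (hK : IsMulCommutative K) (hcard : Nat.card H = Nat.card K)
    (hHall : (Nat.card H).Coprime H.index) :
    ∃ g : G, K.map (MulAut.conj g).toMonoidHom = H := by
  suffices ∀ (n : ℕ) (G : Type u) [Group G] [Finite G] (H K : Subgroup G),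
      IsMulCommutative H → IsMulCommutative K → Nat.card H = n → Nat.card K = n →
      n.Coprime H.index → ∃ g : G, K.map (MulAut.conj g).toMonoidHom = H from
    this _ G H K hH hK rfl hcard.symm hHall
  intro n
  induction n using Nat.strong_induction_on with
  | _ n ih =>
    intro G _ _ H K hH hK hHn hKn hco
    by_cases hn1 : n = 1
    · rw [hn1] at hHn hKn
      refine ⟨1, ?_⟩
      rw [Subgroup.card_eq_one.mp hHn, Subgroup.card_eq_one.mp hKn, Subgroup.map_bot]
    obtain ⟨p, hp, hpn⟩ := Nat.exists_prime_and_dvd hn1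
    haveI := Fact.mk hp
    have hKidx : K.index = H.index := by
      have h1 := H.card_mul_index
      have h2 := K.card_mul_index
      rw [hHn] at h1; rw [hKn] at h2
      exact Nat.eq_of_mul_eq_mul_left (hKn ▸ Nat.card_pos) (h2.trans h1.symm)
    have hpidx : ¬ p ∣ H.index := fun hd =>
      hp.not_dvd_one (hco ▸ Nat.dvd_gcd hpn hd)
    obtain ⟨R, hR⟩ := exists_sylow_le_of_not_dvd_index H hpidx
    obtain ⟨R', hR'⟩ := exists_sylow_le_of_not_dvd_index K (hKidx ▸ hpidx)
    obtain ⟨a, ha⟩ := exists_sylow_map_conj_eq R R'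
    set K₀ := K.map (MulAut.conj a).toMonoidHom with hK₀
    have hRK : (R : Subgroup G) ≤ K₀ := ha ▸ Subgroup.map_mono hR'
    have hK₀c : IsMulCommutative K₀ := isMulCommutative_map_conj hK a
    have hK₀n : Nat.card K₀ = n := by
      rw [hK₀, card_map_of_injective (MulAut.conj a).injective, hKn]
    set C := Subgroup.centralizer ((R : Subgroup G) : Set G) with hC
    have hHC : H ≤ C := le_centralizer_of_isMulCommutative hH hR
    have hKC : K₀ ≤ C := le_centralizer_of_isMulCommutative hK₀c hRK
    have hRC : (R : Subgroup G) ≤ C := hR.trans hHC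
    set S : Sylow p C := R.subtype hRC with hS
    have hSc : ∀ s ∈ (S : Subgroup C), ∀ c : C, s * c = c * s := fun s hs c =>
      Subtype.ext (mem_centralizer_iff.mp c.2 (s : G) hs)
    have hnpc : Cfsg.HasNormalPComplement p C :=
      hasNormalPComplement_of_normalizer_le_centralizer S fun c _ =>
        mem_centralizer_iff.mpr fun s hs => hSc s hs c
    set M := Cfsg.pResidual p C with hM
    have hcompl := isComplement'_pResidual S (hasNormalPComplement_iff.mp hnpc)
    -- `p'`-part of an abelian Hall subgroup inside `C`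
    have part : ∀ L : Subgroup G, L ≤ C → (R : Subgroup G) ≤ L → Nat.card L = n →
        Nat.card ((L.subgroupOf C).subgroupOf M) * Nat.card (S : Subgroup C) = n ∧
          L = (R : Subgroup G) ⊔ (((L.subgroupOf C).subgroupOf M).map M.subtype).map C.subtype := by
      intro L hL hRL hLn
      have hSL : (S : Subgroup C) ≤ L.subgroupOf C := Subgroup.comap_mono hRL
      have hmem : ((L.subgroupOf C).subgroupOf M).map M.subtype = (L.subgroupOf C) ⊓ M :=
        subgroupOf_map_subtype _ _
      constructor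
      · have h1 := Lib.SZ.card_sup_mul_card_inf (L.subgroupOf C) M
        have htop : L.subgroupOf C ⊔ M = ⊤ := top_le_iff.mp
          ((pResidual_sup_sylow S).ge.trans (sup_le le_sup_right (hSL.trans le_sup_left)))
        have hcm := hcompl.card_mul
        rw [htop, Subgroup.card_top, Lib.SZ.card_subgroupOf hL, hLn] at h1
        rw [← card_map_of_injective (Subgroup.subtype_injective M), hmem]
        refine Nat.eq_of_mul_eq_mul_right (Nat.card_pos (α := M)) ?_
        rw [← h1, ← hcm]; ring
      · refine le_antisymm (fun x hx => ?_) (sup_le hRL ?_)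
        · obtain ⟨m, hm, s, hs, he⟩ : (⟨x, hL hx⟩ : C) ∈ (M : Set C) * ((S : Subgroup C) : Set C) := by
            rw [← normal_mul, pResidual_sup_sylow S]; trivial
          have hx' : x = (m : G) * (s : G) := (congrArg Subtype.val he).symm
          have hmL : (m : G) ∈ L := (mul_mem_cancel_right (hRL hs)).mp (hx' ▸ hx)
          rw [hx', hmem]
          refine mul_mem (mem_sup_right ⟨m, ⟨hmL, hm⟩, rfl⟩) (mem_sup_left hs)
        · rw [hmem]
          rintro _ ⟨y, hy, rfl⟩
          exact hy.1
    obtain ⟨hH1, hH2⟩ := part H hHC hR hHn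
    obtain ⟨hK1, hK2⟩ := part K₀ hKC hRK hK₀n
    set H₁ := (H.subgroupOf C).subgroupOf M
    set K₁ := (K₀.subgroupOf C).subgroupOf M
    have hS1 : 1 < Nat.card (S : Subgroup C) := by
      rw [hS, Sylow.coe_subtype, Lib.SZ.card_subgroupOf hRC]
      exact (R : Subgroup G).one_lt_card_iff_ne_bot.mpr
        (R.ne_bot_of_dvd_card (hpn.trans (hHn ▸ card_subgroup_dvd_card H)))
    have hlt : Nat.card H₁ < n := hH1 ▸ lt_mul_of_one_lt_right Nat.card_pos hS1
    have hKH : Nat.card K₁ = Nat.card H₁ :=
      Nat.eq_of_mul_eq_mul_right (Nat.card_pos (α := (S : Subgroup C))) (hK1.trans hH1.symm)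
    have hidx : H₁.index = (H.subgroupOf C).index := by
      have h1 := H₁.card_mul_index
      have h2 := (H.subgroupOf C).card_mul_index
      rw [Lib.SZ.card_subgroupOf hHC, hHn, ← hH1, ← hcompl.card_mul] at h2
      refine (Nat.eq_of_mul_eq_mul_left (Nat.card_pos (α := H₁)) ?_).symm
      refine Nat.eq_of_mul_eq_mul_right (Nat.card_pos (α := (S : Subgroup C))) ?_
      rw [h1, ← h2]; ring
    have hco₁ : (Nat.card H₁).Coprime H₁.index := by
      rw [hidx]
      exact (hco.coprime_dvd_left (Dvd.intro _ hH1)).coprime_dvd_right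
        (relIndex_dvd_index_of_le hHC)
    obtain ⟨c, hc⟩ := ih _ hlt M H₁ K₁
      (subgroupOf_isMulCommutative (subgroupOf_isMulCommutative hH C) M)
      (subgroupOf_isMulCommutative (subgroupOf_isMulCommutative hK₀c C) M) rfl hKH hco₁
    refine ⟨((c : C) : G) * a, ?_⟩
    rw [← map_conj_map_conj, ← hK₀, hK2, hH2, Subgroup.map_sup]
    congr 1
    · refine map_conj_eq_iff.mpr ?_
      have hcc := (c : C).2
      rw [mem_normalizer_iff]
      intro x
      constructor
      · intro hx
        rwa [← mem_centralizer_iff.mp hcc x hx, mul_inv_cancel_right]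
      · intro hx
        have h1 := mem_centralizer_iff.mp hcc _ hx
        have h2 : x = ((c : C) : G) * x * ((c : C) : G)⁻¹ := by
          calc x = ((c : C) : G)⁻¹ * ((((c : C) : G) * x * ((c : C) : G)⁻¹) * ((c : C) : G)) := by
                group
            _ = ((c : C) : G)⁻¹ * (((c : C) : G) * (((c : C) : G) * x * ((c : C) : G)⁻¹)) := by
                rw [h1]
            _ = ((c : C) : G) * x * ((c : C) : G)⁻¹ := by group
        rwa [h2]
    · rw [← hc]
      simp only [Subgroup.map_map]
      congr 1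

theorem hasNormalPComplement_of_isNilpotent [Finite G] [Group.IsNilpotent G] {p : ℕ}
    [Fact p.Prime] : Cfsg.HasNormalPComplement p G := by
  let P : Sylow p G := default
  have hnorm : ∀ {r : ℕ} [Fact r.Prime] (S : Sylow r G), (S : Subgroup G).Normal := fun S =>
    S.normal_of_normalizerCondition Group.normalizerCondition_of_isNilpotent
  have hPn : (P : Subgroup G).Normal := hnorm P
  set C := Subgroup.centralizer ((P : Subgroup G) : Set G) with hC
  have hCn : C.Normal := Subgroup.normal_centralizer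
  have htop : (P : Subgroup G) ⊔ C = ⊤ := by
    rw [← index_eq_one]
    by_contra hne
    obtain ⟨r, hr, hrd⟩ := Nat.exists_prime_and_dvd hne
    haveI := Fact.mk hr
    by_cases hrp : r = p
    · have hd : r ∣ (P : Subgroup G).index := hrd.trans (index_dvd_of_le le_sup_left)
      exact P.not_dvd_index (Eq.subst (motive := fun x : ℕ => x ∣ (P : Subgroup G).index) hrp hd)
    · let R : Sylow r G := default
      have hle : (R : Subgroup G) ≤ C := fun x hx => mem_centralizer_iff.mpr fun y hy =>
        Subgroup.commute_of_normal_of_disjoint _ _ hPn (hnorm R)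
          (IsPGroup.disjoint_of_ne p r (Ne.symm hrp) _ _ P.2 R.2) y x hy hx
      exact R.not_dvd_index (hrd.trans (index_dvd_of_le (hle.trans le_sup_right)))
  have hq : IsPGroup p (G ⧸ C) := by
    refine P.2.of_surjective ((QuotientGroup.mk' C).comp (P : Subgroup G).subtype) fun y => ?_
    obtain ⟨g, rfl⟩ := QuotientGroup.mk'_surjective C y
    obtain ⟨a, ha, b, hb, rfl⟩ : g ∈ ((P : Subgroup G) : Set G) * (C : Set G) := by
      rw [← mul_normal, htop]; trivial
    exact ⟨⟨a, ha⟩, QuotientGroup.eq.mpr (by simpa using hb)⟩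
  rw [hasNormalPComplement_iff_locallyPTrivial]
  refine locallyPTrivial_of_sylow P fun Q hQ g _ hg => ?_
  exact centralizer_le hQ (pResidual_le_of_isPGroup_quotient C hq (mem_pResidual_of_coprime hg))

/-- A Hall subgroup which controls its own fusion and has, for each prime, a normal complement
inside, has a normal complement. -/
theorem exists_normal_complement_of_control [Finite G] (H : Subgroup G)
    (hHall : (Nat.card H).Coprime H.index)
    (hnpc : ∀ p : ℕ, p.Prime → Cfsg.HasNormalPComplement p H)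
    (h : ∀ x ∈ H, ∀ g : G, g * x * g⁻¹ ∈ H → ∃ k ∈ H, k * x * k⁻¹ = g * x * g⁻¹) :
    ∃ N : Subgroup G, N.Normal ∧ N.IsComplement' H := by
  have hG : ∀ p ∈ (Nat.card H).primeFactors, Cfsg.HasNormalPComplement p G := by
    intro p hp
    obtain ⟨hpp, hpd, -⟩ := Nat.mem_primeFactors.mp hp
    haveI := Fact.mk hpp
    obtain ⟨R, hR⟩ := exists_sylow_le_of_not_dvd_index H fun hd =>
      hpp.not_dvd_one (hHall ▸ Nat.dvd_gcd hpd hd)
    rw [hasNormalPComplement_iff_inf_eq_bot R, inf_comm,
      pResidual_inf_sylow_eq_of_control R hR fun x hx g hg => h x (hR hx) g (hR hg)]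
    have hb := (hasNormalPComplement_iff_inf_eq_bot (R.subtype hR)).mp (hnpc p hpp)
    rw [inf_comm, ← map_inf_eq_of_le, ← Sylow.coe_subtype R hR, hb, Subgroup.map_bot]
  let N : Subgroup G := ⨅ p ∈ (Nat.card H).primeFactors, Cfsg.pResidual p G
  haveI hN : N.Normal := by
    refine ⟨fun n hn g => ?_⟩
    simp only [N, mem_iInf] at hn ⊢
    exact fun p hp => pResidual_normal.conj_mem n (hn p hp) g
  have h1 : (Nat.card N).Coprime (Nat.card H) := by
    by_contra hnc
    obtain ⟨p, hp, hpN, hpH⟩ := Nat.Prime.not_coprime_iff_dvd.mp hnc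
    have hmem : p ∈ (Nat.card H).primeFactors :=
      Nat.mem_primeFactors.mpr ⟨hp, hpH, Nat.card_pos.ne'⟩
    haveI := Fact.mk hp
    exact hasNormalPComplement_iff.mp (hG p hmem)
      (hpN.trans (card_dvd_of_le (iInf₂_le p hmem)))
  have h2 : N.index.Coprime H.index := by
    by_contra hnc
    obtain ⟨r, hr, hrN, hrH⟩ := Nat.Prime.not_coprime_iff_dvd.mp hnc
    haveI := Fact.mk hr
    obtain ⟨x, hx⟩ := exists_prime_orderOf_dvd_card' r (index_eq_card N ▸ hrN)
    obtain ⟨g, rfl⟩ := QuotientGroup.mk_surjective x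
    have hpow : g ^ (Nat.card H) ^ Nat.card G ∈ N := by
      simp only [N, mem_iInf]
      intro p hp
      obtain ⟨hpp, hpd, -⟩ := Nat.mem_primeFactors.mp hp
      haveI := Fact.mk hpp
      obtain ⟨k, hk⟩ := index_pResidual (G := G) (p := p)
      have hk' : k ≤ Nat.card G := (Nat.lt_pow_self hpp.one_lt).le.trans
        (hk ▸ Nat.le_of_dvd Nat.card_pos (index_dvd_card _))
      obtain ⟨t, ht⟩ := (pow_dvd_pow p hk').trans (pow_dvd_pow_of_dvd hpd (Nat.card G))
      rw [ht, pow_mul, ← hk]
      exact pow_mem (pow_index_mem _ g) t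
    have hrd : r ∣ (Nat.card H) ^ Nat.card G := by
      rw [← hx]
      exact orderOf_dvd_of_pow_eq_one ((QuotientGroup.eq_one_iff _).mpr hpow)
    exact hr.not_dvd_one (hHall ▸ Nat.dvd_gcd (hr.dvd_of_dvd_pow hrd) hrH)
  refine ⟨N, hN, isComplement'_of_coprime ?_ h1⟩
  have e1 := N.card_mul_index
  have e2 := H.card_mul_index
  have d1 : Nat.card N ∣ H.index := h1.dvd_of_dvd_mul_left (e2 ▸ card_subgroup_dvd_card N)
  have d2 : H.index ∣ Nat.card N := by
    refine h2.symm.dvd_of_dvd_mul_right ?_
    rw [e1, ← e2]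
    exact dvd_mul_left _ _
  rw [Nat.dvd_antisymm d1 d2, mul_comm, e2]

end Cfsg.Agent.Lib.Transfer
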