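import Cfsg.Agent.Lib.Transfer.Criteria
import Cfsg.Agent.Lib.Functor.Reduction

/-!
# Thompson's reduction for normal `p`-complement criteria in functor form

If `N_G(W(S))` has a normal `p`-complement and `G` has none, then some section `Y` of `G` with the
same property is constrained, `Y/O_p(Y)` has a normal `p`-complement, a Sylow `p`-subgroup is
maximal and `O^p(Y)'` is a `p`-group.
-/

namespace Cfsg.Agent.Lib.Transfer

open Subgroup Cfsg
open Cfsg.Agent.Lib.Functor
open scoped commutatorElement

universe u

variable {p : ℕ}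

/-- A group isomorphic to, or embedded in, a group with a normal `p`-complement has one. -/
theorem hasNormalPComplement_of_le [Fact p.Prime] {G : Type*} [Group G] [Finite G] {H K : Subgroup G}
    (hle : H ≤ K) (h : Cfsg.HasNormalPComplement p K) : Cfsg.HasNormalPComplement p H :=
  hasNormalPComplement_of_injective (inclusion hle) (inclusion_injective hle) h

theorem hasNormalPComplement_map [Fact p.Prime] {G X : Type*} [Group G] [Group X] [Finite G]
    [Finite X] (f : G →* X) {H : Subgroup G} (h : Cfsg.HasNormalPComplement p H) :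
    Cfsg.HasNormalPComplement p (H.map f) :=
  hasNormalPComplement_of_surjective (f.subgroupMap H) (f.subgroupMap_surjective H) h

/-- `N(W S)` in an isomorphic group. -/
theorem hasNormalPComplement_normalizer_functor_of_mulEquiv [Fact p.Prime] {X Y : Type u} [Group X]
    [Group Y] [Finite X] [Finite Y] {W : ∀ (Q : Type u) [Group Q], Subgroup Q}
    (hW : IsCharPFunctor.{u} p W) (e : X ≃* Y) {T : Subgroup X} (hT : IsPGroup p T)
    (h : Cfsg.HasNormalPComplement p (normalizer ((inducedFunctor W T : Subgroup X) : Set X))) :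
    Cfsg.HasNormalPComplement p
      (normalizer ((inducedFunctor W (T.map e.toMonoidHom) : Subgroup Y) : Set Y)) := by
  rw [inducedFunctor_map hW hT e.toMonoidHom e.injective.injOn,
    ← map_equiv_normalizer_eq]
  exact hasNormalPComplement_map _ h

/-- **Thompson's reduction.** -/
theorem hasNormalPComplement_of_thompson_reduction [hp : Fact p.Prime]
    {W : ∀ (Q : Type u) [Group Q], Subgroup Q} (hW : IsCharPFunctor.{u} p W)
    (G : Type u) [Group G] [Finite G] (S : Sylow p G)
    (hN : Cfsg.HasNormalPComplement p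
      (normalizer ((inducedFunctor W (S : Subgroup G) : Subgroup G) : Set G)))
    (h : ∀ (Y : Type u) [Group Y] [Finite Y], Involves Y G →
      centralizer ((pCore p Y : Subgroup Y) : Set Y) ≤ pCore p Y →
      Cfsg.HasNormalPComplement p (Y ⧸ pCore p Y) →
      IsPGroup p ↥(⁅Cfsg.pResidual p Y, Cfsg.pResidual p Y⁆ : Subgroup Y) →
      ∀ T : Sylow p Y, IsCoatom (T : Subgroup Y) →
      Cfsg.HasNormalPComplement p
        (normalizer ((inducedFunctor W (T : Subgroup Y) : Subgroup Y) : Set Y)) →
      Cfsg.HasNormalPComplement p Y) :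
    Cfsg.HasNormalPComplement p G := by
  obtain ⟨n, hn⟩ : ∃ n, Nat.card G ≤ n := ⟨_, le_rfl⟩
  induction n generalizing G with
  | zero => have := Nat.card_pos (α := G); omega
  | succ n ih =>
  by_contra hG
  have hS := isSylowIn_top_of_sylow S
  have hWc := inducedFunctor_isConjugacyFunctor (G := G) hW
  -- induction inside proper subgroups
  have hsub : ∀ H : Subgroup G, H ≠ ⊤ → ∀ T : Subgroup G, IsSylowIn p H T →
      Cfsg.HasNormalPComplement p (normalizer ((inducedFunctor W T : Subgroup G) : Set G)) →
      Cfsg.HasNormalPComplement p H := by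
    intro H hH T hT hNT
    have hcard : Nat.card H ≤ n := by
      have : Nat.card H < Nat.card G := lt_of_le_of_ne (card_le_card_group H)
        fun he => hH (eq_top_of_card_eq H he)
      omega
    obtain ⟨P, hP⟩ := hT.exists_sylow
    refine ih H P ?_ (fun Y _ _ hY => h Y (involves_trans hY (involves_subgroup H))) hcard
    have hmap : (P : Subgroup H).map H.subtype = T := by
      rw [hP, subgroupOf_map_subtype, inf_eq_left.mpr hT.le]
    have hle : normalizer ((inducedFunctor W (P : Subgroup H) : Subgroup H) : Set H) ≤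
        (normalizer ((inducedFunctor W T : Subgroup G) : Set G)).comap H.subtype := by
      rw [← map_le_iff_le_comap, ← hmap,
        inducedFunctor_map hW P.2 H.subtype H.subtype_injective.injOn]
      exact le_normalizer_map _
    exact hasNormalPComplement_of_le hle
      (hasNormalPComplement_of_injective
        ((H.subtype.comp (Subgroup.subtype _)).codRestrict
          (normalizer ((inducedFunctor W T : Subgroup G) : Set G)) (fun x => x.2))
        (fun a b hab => Subtype.ext (H.subtype_injective (congrArg Subtype.val hab :))) hNT)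
  -- a normal `p`-subgroup
  obtain ⟨U, hU, hUS, hUN⟩ : ∃ U : Subgroup G, U ≠ ⊥ ∧ U ≤ (S : Subgroup G) ∧
      ¬ Cfsg.HasNormalPComplement p (normalizer (U : Set G)) ∧
      ∀ U' : Subgroup G, U' ≠ ⊥ → U' ≤ (S : Subgroup G) →
        ¬ Cfsg.HasNormalPComplement p (normalizer (U' : Set G)) →
        Nat.card ↥((S : Subgroup G) ⊓ normalizer (U' : Set G)) ≤
          Nat.card ↥((S : Subgroup G) ⊓ normalizer (U : Set G)) := by
    classical
    let 𝒰 := {U : Subgroup G | U ≠ ⊥ ∧ U ≤ (S : Subgroup G) ∧
      ¬ Cfsg.HasNormalPComplement p (normalizer (U : Set G))}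
    have hne : 𝒰.Nonempty := by
      have := hasNormalPComplement_iff_forall_normalizer (p := p) (G := G) |>.not.mp hG
      push Not at this
      obtain ⟨Q, hQ, hQ1, hQN⟩ := this
      obtain ⟨g, -, hg⟩ := hS.exists_cj_le le_top hQ
      refine ⟨Functor.cj g Q, fun he => hQ1 (cj_eq_bot_iff.mp he), hg, fun hc => hQN ?_⟩
      rw [← cj_normalizer] at hc
      exact (hasNormalPComplement_congr
        (equivMapOfInjective (normalizer (Q : Set G)) _ (MulAut.conj g).injective)).mpr hc
    obtain ⟨U, hU, hmax⟩ := (Set.toFinite 𝒰).exists_maximalFor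
      (fun U : Subgroup G => Nat.card ↥((S : Subgroup G) ⊓ normalizer (U : Set G))) _ hne
    refine ⟨U, hU.1, hU.2.1, hU.2.2, fun U' h1 h2 h3 => ?_⟩
    rcases le_total (Nat.card ↥((S : Subgroup G) ⊓ normalizer (U' : Set G)))
      (Nat.card ↥((S : Subgroup G) ⊓ normalizer (U : Set G))) with h' | h'
    · exact h'
    · exact hmax ⟨h1, h2, h3⟩ h'
  obtain ⟨hUN, hUmax⟩ := hUN
  obtain ⟨a, haS, haN, hV⟩ := exists_fullyNormalized hS hUS
  set V := Functor.cj a U with hVdef
  have hV1 : V ≠ ⊥ := fun he => hU (cj_eq_bot_iff.mp he)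
  have hVN : ¬ Cfsg.HasNormalPComplement p (normalizer (V : Set G)) := by
    intro hc
    rw [hVdef, ← cj_normalizer] at hc
    exact hUN ((hasNormalPComplement_congr
      (equivMapOfInjective (normalizer (U : Set G)) _ (MulAut.conj a).injective)).mpr hc)
  have hcardV : Nat.card ↥((S : Subgroup G) ⊓ normalizer (U : Set G)) ≤
      Nat.card ↥((S : Subgroup G) ⊓ normalizer (V : Set G)) := by
    rw [← card_cj a]
    exact card_le_of_le haN
  set Q := (S : Subgroup G) ⊓ normalizer (V : Set G) with hQ
  have hQS : Q = (S : Subgroup G) := by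
    by_contra hne
    have hQ1 : Q ≠ ⊥ := fun he => hV1 (le_bot_iff.mp (he ▸ le_inf haS le_normalizer))
    have hlt := Functor.lt_inf_normalizer (p := p) S.2 inf_le_left hne
    have hW1 : inducedFunctor W Q ≠ ⊥ := functor_ne_bot hWc hV.isPGroup hQ1
    have hlt' : Nat.card Q <
        Nat.card ↥((S : Subgroup G) ⊓ normalizer ((inducedFunctor W Q : Subgroup G) : Set G)) :=
      lt_of_lt_of_le (Set.Finite.card_lt_card (Set.toFinite _) hlt)
        (card_le_of_le (inf_le_inf_left _
          (normalizer_le_normalizer_functor hWc hV.isPGroup)))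
    have hWN : Cfsg.HasNormalPComplement p
        (normalizer ((inducedFunctor W Q : Subgroup G) : Set G)) := by
      by_contra hc
      have := hUmax _ hW1 ((Functor.inducedFunctor_le Q).trans inf_le_left) hc
      omega
    refine hVN (hsub _ (fun htop => hne ?_) Q hV hWN)
    rw [hQ, htop, inf_top_eq]
  have hSV : (S : Subgroup G) ≤ normalizer (V : Set G) := inf_eq_left.mp (hQ ▸ hQS)
  have hVtop : normalizer (V : Set G) = ⊤ := by
    by_contra hne
    exact hVN (hsub _ hne S (hS.inter hSV le_top) hN)
  haveI hPn : (pCore p G).Normal :=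
    @Subgroup.normal_of_characteristic _ _ _ PSolvable.pCore_characteristic
  set P := pCore p G with hPdef
  have hPp : IsPGroup p P := PSolvable.pCore_isPGroup
  have hP1 : P ≠ ⊥ := by
    haveI := normalizer_eq_top_iff.mp hVtop
    exact fun he => hV1 (le_bot_iff.mp (he ▸ PSolvable.le_pCore (S.2.to_le haS)))
  have hPS : P ≤ (S : Subgroup G) := PSolvable.pCore_le_sylow S
  have hSne : (S : Subgroup G) ≠ P := by
    intro he
    refine hG ?_
    have htop : normalizer ((inducedFunctor W (S : Subgroup G) : Subgroup G) : Set G) = ⊤ := by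
      refine top_le_iff.mp (le_trans (le_of_eq ?_) (normalizer_le_normalizer_functor hWc S.2))
      rw [he, normalizer_eq_top_iff.mpr hPn]
    rw [htop] at hN
    exact (hasNormalPComplement_congr topEquiv).mp hN
  -- the quotient by `P`
  set f := QuotientGroup.mk' P with hf
  have hfs : Function.Surjective f := QuotientGroup.mk'_surjective P
  have hquot : Cfsg.HasNormalPComplement p (G ⧸ P) := by
    obtain ⟨hne, hle⟩ := comap_functor_quotient hW hS hSne
    have hH := hsub _ hne S (hS.inter hle le_top) hN
    refine ih (G ⧸ P) (S.mapSurjective hfs) ?_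
      (fun Y _ _ hY => h Y (involves_trans hY (involves_of_surjective hfs))) ?_
    · refine hasNormalPComplement_of_le ?_ (hasNormalPComplement_map f hH)
      intro y hy
      obtain ⟨x, rfl⟩ := hfs y
      exact mem_map_of_mem f (le_normalizer_comap f (mem_comap.mpr hy))
    · have h1 : 1 < Nat.card P := (one_lt_card_iff_ne_bot P).mpr hP1
      have h2 := card_eq_card_quotient_mul_card_subgroup P
      have h3 : 0 < Nat.card (G ⧸ P) := Nat.card_pos
      nlinarith
  -- no normal `p'`-subgroup
  haveI hKn : (pPrimeCore p G).Normal :=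
    @Subgroup.normal_of_characteristic _ _ _ PSolvable.pPrimeCore_characteristic
  have hK : pPrimeCore p G = ⊥ := by
    by_contra hne
    have hfs' := QuotientGroup.mk'_surjective (pPrimeCore p G)
    set f' := QuotientGroup.mk' (pPrimeCore p G)
    have hco : (Nat.card f'.ker).Coprime p := by
      rw [QuotientGroup.ker_mk']; exact PSolvable.pPrimeCore_coprime
    have hq : Cfsg.HasNormalPComplement p (G ⧸ pPrimeCore p G) := by
      refine ih (G ⧸ pPrimeCore p G) (S.mapSurjective hfs') ?_
        (fun Y _ _ hY => h Y (involves_trans hY (involves_of_surjective hfs'))) ?_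
      · refine hasNormalPComplement_of_le ?_ (hasNormalPComplement_map f' hN)
        intro y hy
        rw [Sylow.coe_mapSurjective,
          inducedFunctor_map hW S.2 f' (injOn_of_coprime_ker hco S.2)] at hy
        obtain ⟨x, hx, rfl⟩ := exists_normalizer_preimage hfs' hco
          (S.2.to_le (Functor.inducedFunctor_le _)) hy
        exact mem_map_of_mem f' hx
      · have h1 : 1 < Nat.card (pPrimeCore p G) :=
          (one_lt_card_iff_ne_bot (pPrimeCore p G)).mpr hne
        have h2 := card_eq_card_quotient_mul_card_subgroup (pPrimeCore p G)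
        have h3 : 0 < Nat.card (G ⧸ pPrimeCore p G) := Nat.card_pos
        nlinarith
    refine hG (hasNormalPComplement_iff.mpr fun hd => ?_)
    have h1 := hd.trans (card_dvd_of_le (map_le_iff_le_comap.mp (map_pResidual_le (p := p) f')))
    rw [PSolvable.card_comap_mk'] at h1
    rcases hp.out.dvd_mul.mp h1 with h2 | h2
    · exact PSolvable.pPrimeCore_not_dvd h2
    · exact hasNormalPComplement_iff.mp hq h2
  -- constrained
  set M := Cfsg.pResidual p (G ⧸ P) with hM
  haveI hMn : M.Normal := pResidual_normal
  have hMco : ¬ p ∣ Nat.card M := hasNormalPComplement_iff.mp hquot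
  have hcons : centralizer (P : Set G) ≤ P := by
    set C := centralizer (P : Set G) with hC
    set K := C ⊓ M.comap f with hKdef
    haveI : K.Normal := Subgroup.normal_inf_normal _ _
    have hsyl : ∀ Q : Sylow p K, ∀ q ∈ (Q : Subgroup K), (q : G) ∈ P := by
      intro Q q hq
      rw [← QuotientGroup.eq_one_iff]
      exact eq_one_of_isPGroup_coprime (p := p) ((Q.2.map K.subtype).map f)
        (x := ⟨f q, mem_map_of_mem f (mem_map_of_mem _ hq)⟩)
        (by
          rw [orderOf_mk]
          exact (not_dvd_card_iff_forall_coprime M).mp hMco _ q.2.2)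
        |> congrArg Subtype.val
    have hKc : Cfsg.HasNormalPComplement p K := by
      refine hasNormalPComplement_of_normalizer_le_centralizer default fun k _ q hq => ?_
      exact Subtype.ext (k.2.1 _ (hsyl default q hq))
    haveI := pResidual_characteristic (p := p) (G := K)
    have hbot : (Cfsg.pResidual p K).map K.subtype = ⊥ := by
      refine (PSolvable.pPrimeCore_eq_bot_iff.mp hK) _
        ConjAct.normal_of_characteristic_of_normal ?_
      rw [card_map_of_injective K.subtype_injective]
      exact (hp.out.coprime_iff_not_dvd.mpr (hasNormalPComplement_iff.mp hKc)).symm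
    rw [map_eq_bot_iff_of_injective _ K.subtype_injective] at hbot
    have hCp : IsPGroup p C := by
      intro c
      obtain ⟨k, hk⟩ := exists_pow_coprime (p := p) (c : G)
      have hcK : (c : G) ^ p ^ k ∈ K := ⟨C.pow_mem c.2 _,
        map_pResidual_le f (mem_map_of_mem f (mem_pResidual_of_coprime hk))⟩
      have := mem_pResidual_of_coprime (g := (⟨_, hcK⟩ : K)) (by rwa [orderOf_mk])
      rw [hbot, mem_bot] at this
      exact ⟨k, Subtype.ext (by simpa using congrArg Subtype.val this)⟩
    exact PSolvable.le_pCore hCp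
  -- the Sylow subgroup is maximal
  have hmaxS : ∀ H : Subgroup G, (S : Subgroup G) ≤ H → H ≠ ⊤ → H = (S : Subgroup G) := by
    intro H hSH hH
    have hHc := hsub H hH S (hS.inter hSH le_top) hN
    have hHp : IsPGroup p H := by
      intro x
      obtain ⟨k, hk⟩ := exists_pow_coprime (p := p) (x : G)
      have hy : x ^ p ^ k ∈ Cfsg.pResidual p H :=
        mem_pResidual_of_coprime (by rwa [← orderOf_coe, coe_pow])
      haveI := pResidual_normal (p := p) (G := H)
      have hcen : ((x ^ p ^ k : H) : G) ∈ centralizer (P : Set G) := by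
        intro t ht
        have htH : t ∈ H := hSH (hPS ht)
        have hcomm : ⁅x ^ p ^ k, (⟨t, htH⟩ : H)⁆ ∈
            Cfsg.pResidual p H ⊓ P.subgroupOf H := by
          refine ⟨?_, ?_⟩
          · rw [commutatorElement_def, mul_assoc _ (x ^ p ^ k)⁻¹ _, mul_assoc (x ^ p ^ k)]
            exact mul_mem hy (by
              simpa [mul_assoc] using pResidual_normal.conj_mem _ (inv_mem hy) (⟨t, htH⟩ : H))
          · show ((⁅x ^ p ^ k, (⟨t, htH⟩ : H)⁆ : H) : G) ∈ P
            push_cast [commutatorElement_def]
            exact mul_mem (hPn.conj_mem t ht ((x : G) ^ p ^ k)) (P.inv_mem ht)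
        have hinf : Cfsg.pResidual p H ⊓ P.subgroupOf H = ⊥ := (inf_comm _ _).trans
          (PSolvable.inf_eq_bot_of_isPGroup_of_coprime (p := p) (hPp.comap_subtype (K := H))
            (hp.out.coprime_iff_not_dvd.mpr (hasNormalPComplement_iff.mp hHc)).symm)
        rw [hinf, mem_bot, commutatorElement_eq_one_iff_mul_comm] at hcomm
        exact (congrArg Subtype.val hcomm).symm
      obtain ⟨j, hj⟩ := hPp ⟨_, hcons hcen⟩
      refine ⟨k + j, Subtype.ext ?_⟩
      simpa [pow_add, pow_mul] using congrArg Subtype.val hj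
    exact (S.is_maximal' hHp hSH)
  have hcoatom : IsCoatom (S : Subgroup G) := by
    refine ⟨fun he => hG ?_, fun H hH => ?_⟩
    · exact hasNormalPComplement_of_isPGroup (he ▸ S.2 |>.of_equiv topEquiv)
    · by_contra hne
      exact hH.ne' (hmaxS H hH.le hne)
  -- `O^p(G)'` is a `p`-group
  have hder : IsPGroup p ↥(⁅Cfsg.pResidual p G, Cfsg.pResidual p G⁆ : Subgroup G) := by
    suffices hab : ⁅M, M⁆ = ⊥ by
      refine hPp.to_le ?_
      have h1 : (⁅Cfsg.pResidual p G, Cfsg.pResidual p G⁆ : Subgroup G).map f = ⊥ := by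
        rw [map_commutator]
        exact le_bot_iff.mp ((commutator_mono (map_pResidual_le f) (map_pResidual_le f)).trans
          hab.le)
      rwa [Subgroup.map_eq_bot_iff, QuotientGroup.ker_mk'] at h1
    by_cases hM1 : M = ⊥
    · rw [hM1, commutator_bot_left]
    obtain ⟨q, hq, hqd⟩ := Nat.exists_prime_and_dvd (n := Nat.card M)
      (fun he => hM1 (eq_bot_of_card_eq M he))
    haveI : Fact q.Prime := ⟨hq⟩
    obtain ⟨Q₀⟩ : Nonempty (Sylow q M) := Sylow.nonempty
    have hsup := Q₀.normalizer_sup_eq_top
    set N := normalizer (((Q₀ : Subgroup M).map M.subtype : Subgroup (G ⧸ P)) : Set (G ⧸ P))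
    have hNi : ¬ p ∣ N.index := by
      intro hd
      refine hMco (hd.trans ?_)
      have h1 : M.relIndex (N ⊔ M) = M.relIndex N := relIndex_sup_right _ _
      rw [hsup, relIndex_top_right] at h1
      have h2 := N.index_mul_card
      have h3 := M.index_mul_card
      have h4 := PSolvable.card_mul_relIndex (inf_le_right : M ⊓ N ≤ N)
      rw [inf_relIndex_right] at h4
      refine Dvd.intro (Nat.card (M ⊓ N : Subgroup (G ⧸ P))) ?_
      have hr : 0 < M.index := Nat.pos_of_ne_zero index_ne_zero_of_finite
      refine Nat.eq_of_mul_eq_mul_left hr ?_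
      calc M.index * (N.index * Nat.card (M ⊓ N : Subgroup (G ⧸ P)))
          = N.index * (Nat.card (M ⊓ N : Subgroup (G ⧸ P)) * M.relIndex N) := by rw [← h1]; ring
        _ = M.index * Nat.card M := by rw [h4, h2, h3]
    -- a Sylow subgroup inside `N`
    obtain ⟨R⟩ : Nonempty (Sylow p N) := Sylow.nonempty
    set S' := S.mapSurjective hfs
    have hS' := isSylowIn_top_of_sylow S'
    have hR : IsSylowIn p ⊤ ((R : Subgroup N).map N.subtype) := by
      refine ⟨le_top, R.2.map _, ?_⟩
      rw [relIndex_top_right, index_map_subtype]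
      exact fun hd => (hp.out.dvd_mul.mp hd).elim R.not_dvd_index hNi
    obtain ⟨x, -, hx⟩ := hR.exists_cj_le (le_top (a := (S' : Subgroup (G ⧸ P)))) S'.2
    set Q := Functor.cj x⁻¹ ((Q₀ : Subgroup M).map M.subtype) with hQdef
    have hQM : Q ≤ M := by
      rintro _ ⟨y, ⟨z, -, rfl⟩, rfl⟩
      exact hMn.conj_mem z z.2 x⁻¹
    have hSQ : (S' : Subgroup (G ⧸ P)) ≤ normalizer (Q : Set (G ⧸ P)) := by
      rw [hQdef, ← cj_normalizer]
      intro s hs
      rw [Functor.mem_cj, inv_inv]
      exact map_subtype_le _ (hx (conj_mem_cj hs))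
    have hdisj : (S' : Subgroup (G ⧸ P)) ⊓ M = ⊥ :=
      PSolvable.inf_eq_bot_of_isPGroup_of_coprime S'.2
        (hp.out.coprime_iff_not_dvd.mpr hMco).symm
    have hdich : ∀ D : Subgroup (G ⧸ P), D ≤ M → (S' : Subgroup (G ⧸ P)) ≤ normalizer (D : Set _) →
        D = ⊥ ∨ D = M := by
      intro D hD hnorm
      rcases eq_or_ne (((S' : Subgroup (G ⧸ P)) ⊔ D).comap f) ⊤ with ht | ht
      · right
        refine le_antisymm hD fun m hm => ?_
        obtain ⟨y, rfl⟩ := hfs m
        have hy : f y ∈ (S' : Subgroup (G ⧸ P)) ⊔ D := by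
          rw [← mem_comap, ht]; exact mem_top y
        rw [← SetLike.mem_coe, coe_mul_of_left_le_normalizer_right _ _ hnorm] at hy
        obtain ⟨s, hs, d, hd, hsd⟩ := hy
        have hsM : s ∈ (S' : Subgroup (G ⧸ P)) ⊓ M := ⟨hs, by
          have : s = f y * d⁻¹ := by rw [← hsd]; simp
          rw [this]
          exact M.mul_mem hm (M.inv_mem (hD hd))⟩
        rw [hdisj, mem_bot] at hsM
        rw [← hsd, hsM]
        simpa using hd
      · left
        have hle : (S : Subgroup G) ≤ ((S' : Subgroup (G ⧸ P)) ⊔ D).comap f := fun s hs =>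
          mem_comap.mpr (mem_sup_left (mem_map_of_mem f hs))
        have heq := hmaxS _ hle ht
        refine le_bot_iff.mp fun d hd => ?_
        obtain ⟨y, rfl⟩ := hfs d
        have hy : y ∈ (S : Subgroup G) := heq ▸ mem_comap.mpr (mem_sup_right hd)
        exact hdisj.le ⟨mem_map_of_mem f hy, hD hd⟩
    have hQ1 : Q ≠ ⊥ := by
      intro he
      rw [hQdef, cj_eq_bot_iff, map_eq_bot_iff_of_injective _ M.subtype_injective] at he
      exact Q₀.ne_bot_of_dvd_card hqd he
    have hQM' : Q = M := (hdich Q hQM hSQ).resolve_left hQ1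
    have hQp : IsPGroup q Q := Functor.isPGroup_cj (Q₀.2.map _)
    have hDn : (S' : Subgroup (G ⧸ P)) ≤ normalizer ((⁅M, M⁆ : Subgroup (G ⧸ P)) : Set (G ⧸ P)) :=
      fun s _ => by rw [normalizer_eq_top_iff.mpr inferInstance]; exact mem_top s
    rcases hdich ⁅M, M⁆ (commutator_le_self M) hDn with hb | hb
    · exact hb
    · exfalso
      haveI : Group.IsNilpotent Q := hQp.isNilpotent
      have hlt := IsSolvable.commutator_lt_of_ne_bot (G := Q) (H := ⊤) (by
        intro he
        exact hQ1 (by
          rw [← Q.range_subtype, MonoidHom.range_eq_map, he, Subgroup.map_bot]))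
      have := congrArg (Subgroup.comap Q.subtype) hb
      rw [← hQM'] at this
      have h2 : ((⁅(⊤ : Subgroup Q), ⊤⁆ : Subgroup Q).map Q.subtype) = ⁅Q, Q⁆ := by
        rw [map_commutator, ← MonoidHom.range_eq_map, range_subtype]
      apply hlt.ne
      apply map_injective Q.subtype_injective
      rw [h2, ← MonoidHom.range_eq_map, range_subtype, hQM', hb]
  exact hG (h G involves_refl hcons hquot hder S hcoatom hN)

end Cfsg.Agent.Lib.Transfer
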