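import Cfsg.Agent.Lib.Transfer.SylowConnected
import Cfsg.Agent.Lib.Transfer.PResidual
import Cfsg.Agent.Lib.Fusion.AlperinGoldschmidt
import Cfsg.Prelude.Def_SylowChains

/-!
# The strong form of the Alperin–Goldschmidt conjugation theorem
-/

namespace Cfsg.Agent.Lib.Transfer

open Subgroup
open Cfsg.Agent.Lib.Functor
open Cfsg.Agent.Lib.AlperinGoldschmidt (exists_mul_mem_normalizer centralizer_le_pPrimePCore)

variable {G : Type*} [Group G] {p : ℕ}

/-- The conditions on a pair `H ≤ X ≤ N(H)` used in the conjugation chains. -/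
def StrongLink (p : ℕ) (P H X : Subgroup G) : Prop :=
  H ≤ P ∧
  ¬ p ∣ (P ⊓ normalizer (H : Set G)).relIndex (normalizer (H : Set G)) ∧
  P ⊓ centralizer (H : Set G) ≤ H ∧
  (Cfsg.pPrimePCore p ↥(normalizer (H : Set G))).map (normalizer (H : Set G)).subtype =
    H ⊔ centralizer (H : Set G) ∧
  ¬ Cfsg.IsSylowChainConnected p
    (↥(normalizer (H : Set G)) ⧸ H.subgroupOf (normalizer (H : Set G))) ∧
  (H ≤ X ∧ X ≤ normalizer (H : Set G) ∧
    (X.subgroupOf (normalizer (H : Set G))).Normal ∧ p ∣ H.relIndex X ∧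
    ∀ Y : Subgroup G, H ≤ Y → Y ≤ normalizer (H : Set G) →
      (Y.subgroupOf (normalizer (H : Set G))).Normal → p ∣ H.relIndex Y → X ≤ Y)

/-- Chains; conjugation by `x` sends `a` to `x⁻¹ * a * x`. -/
def StrongSteps (p : ℕ) (P : Subgroup G) : Subgroup G → List (Subgroup G × Subgroup G × G) → Prop
  | _, [] => True
  | Q, (H, X, x) :: l =>
    StrongLink p P H X ∧ x ∈ (Cfsg.pResidual p ↥X).map X.subtype ∧ Q ≤ H ∧
      StrongSteps p P (cj x⁻¹ Q) l

/-- The product of the conjugating elements. -/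
def strongProd (l : List (Subgroup G × Subgroup G × G)) : G :=
  (l.map fun t => t.2.2).prod

/-- `g = c * x₁ ⋯ xₙ * y` with `c` centralizing `Q` and `y` normalizing `P`. -/
def StrongGood (p : ℕ) (P Q : Subgroup G) (g : G) : Prop :=
  ∃ c ∈ centralizer (Q : Set G), ∃ l, ∃ y ∈ normalizer (P : Set G),
    StrongSteps p P Q l ∧ g = c * strongProd l * y

theorem StrongSteps.mono {P : Subgroup G} (l : List (Subgroup G × Subgroup G × G)) :
    ∀ {Q Q' : Subgroup G}, Q' ≤ Q → StrongSteps p P Q l → StrongSteps p P Q' l := by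
  induction l with
  | nil => exact fun _ _ => trivial
  | cons a l ih => exact fun h hs => ⟨hs.1, hs.2.1, h.trans hs.2.2.1, ih (cj_mono _ h) hs.2.2.2⟩

theorem StrongSteps.append {P : Subgroup G} (l l' : List (Subgroup G × Subgroup G × G)) :
    ∀ {Q : Subgroup G}, StrongSteps p P Q l → StrongSteps p P (cj (strongProd l)⁻¹ Q) l' →
      StrongSteps p P Q (l ++ l') := by
  induction l with
  | nil =>
    intro Q _ h
    simpa [strongProd] using h
  | cons a l ih =>
    intro Q hs h
    refine ⟨hs.1, hs.2.1, hs.2.2.1, ih hs.2.2.2 ?_⟩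
    simpa [strongProd, cj_cj] using h

theorem StrongSteps.get {P : Subgroup G} (l : List (Subgroup G × Subgroup G × G)) :
    ∀ {Q : Subgroup G}, StrongSteps p P Q l → ∀ (j : ℕ) (h : j < l.length),
      StrongLink p P (l[j]).1 (l[j]).2.1 ∧
        (l[j]).2.2 ∈ (Cfsg.pResidual p ↥(l[j]).2.1).map (l[j]).2.1.subtype ∧
        cj ((l.map fun t => t.2.2).take j).prod⁻¹ Q ≤ (l[j]).1 := by
  induction l with
  | nil => exact fun _ j h => absurd h (Nat.not_lt_zero j)
  | cons a l ih =>
    intro Q hs j h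
    cases j with
    | zero =>
      refine ⟨hs.1, hs.2.1, ?_⟩
      simpa using hs.2.2.1
    | succ j =>
      obtain ⟨h1, h2, h3⟩ := ih hs.2.2.2 j (by simpa using h)
      refine ⟨h1, h2, ?_⟩
      simpa [cj_cj] using h3

theorem StrongGood.mono {P Q Q' : Subgroup G} {g : G} (h : Q' ≤ Q) (hg : StrongGood p P Q g) :
    StrongGood p P Q' g := by
  obtain ⟨c, hc, l, y, hy, hs, he⟩ := hg
  exact ⟨c, centralizer_le h hc, l, y, hy, hs.mono l h, he⟩

theorem StrongGood.mul_left {P Q : Subgroup G} {c g : G} (hc : c ∈ centralizer (Q : Set G))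
    (hg : StrongGood p P Q g) : StrongGood p P Q (c * g) := by
  obtain ⟨c', hc', l, y, hy, hs, he⟩ := hg
  exact ⟨c * c', mul_mem hc hc', l, y, hy, hs, by rw [he]; group⟩

theorem strongGood_of_mem_normalizer {P Q : Subgroup G} {y : G} (hy : y ∈ normalizer (P : Set G)) :
    StrongGood p P Q y :=
  ⟨1, one_mem _, [], y, hy, trivial, by simp [strongProd]⟩

/-- Transport of `pResidual` along an isomorphism of subgroups. -/
theorem map_subgroup_pResidual (f : G ≃* G) (X : Subgroup G) :
    ((Cfsg.pResidual p ↥X).map X.subtype).map f.toMonoidHom =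
      (Cfsg.pResidual p ↥(X.map f.toMonoidHom)).map (X.map f.toMonoidHom).subtype := by
  rw [← map_pResidual_mulEquiv (equivMapOfInjective X f.toMonoidHom f.injective), map_map, map_map]
  rfl

theorem map_subgroup_pPrimePCore [Finite G] (f : G ≃* G) (N : Subgroup G) {N' : Subgroup G}
    (h : N.map f.toMonoidHom = N') :
    ((Cfsg.pPrimePCore p ↥N).map N.subtype).map f.toMonoidHom =
      (Cfsg.pPrimePCore p ↥N').map N'.subtype := by
  subst h
  set e := equivMapOfInjective N f.toMonoidHom f.injective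
  have he : (Cfsg.pPrimePCore p ↥N).map e.toMonoidHom =
      Cfsg.pPrimePCore p ↥(N.map f.toMonoidHom) := by
    haveI h1 : (Cfsg.pPrimeCore p ↥N).Normal :=
      @Subgroup.normal_of_characteristic _ _ _ PSolvable.pPrimeCore_characteristic
    haveI h2 : (Cfsg.pPrimeCore p ↥(N.map f.toMonoidHom)).Normal :=
      @Subgroup.normal_of_characteristic _ _ _ PSolvable.pPrimeCore_characteristic
    set q := QuotientGroup.congr _ _ e (PSolvable.map_pPrimeCore_equiv (p := p) e)
    have hq := PSolvable.map_pCore_equiv (p := p) q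
    ext y
    obtain ⟨x, rfl⟩ := e.surjective y
    rw [show e x = e.toMonoidHom x from rfl, Subgroup.mem_map_iff_mem e.injective]
    show QuotientGroup.mk' _ x ∈ Cfsg.pCore p _ ↔ QuotientGroup.mk' _ (e x) ∈ Cfsg.pCore p _
    rw [← hq]
    exact (Subgroup.mem_map_iff_mem (f := q.toMonoidHom) q.injective).symm
  rw [← he, map_map, map_map]
  rfl

theorem StrongLink.conj [Finite G] [Fact p.Prime] {P H X : Subgroup G} (h : StrongLink p P H X)
    {y : G} (hy : y ∈ normalizer (P : Set G)) :
    StrongLink p P (cj y H) (cj y X) := by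
  obtain ⟨h1, h2, h3, h4, h5, h6, h7, h8, h9, h10⟩ := h
  have hP : cj y P = P := cj_eq_self_of_mem hy
  set f := MulAut.conj y
  have hN : cj y (normalizer (H : Set G)) = normalizer ((cj y H : Subgroup G) : Set G) :=
    cj_normalizer y H
  have hC : cj y (centralizer (H : Set G)) = centralizer ((cj y H : Subgroup G) : Set G) := by
    ext x
    simp only [mem_cj, mem_centralizer_iff]
    constructor
    · intro hx z hz
      have := hx _ (mem_cj.mp hz)
      simpa [mul_assoc] using congrArg (fun t => y * t * y⁻¹) this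
    · intro hx z hz
      have := hx _ (conj_mem_cj hz)
      simpa [mul_assoc] using congrArg (fun t => y⁻¹ * t * y) this
  have hinj : Function.Injective f.toMonoidHom := f.injective
  have hnormal : ∀ Z : Subgroup G, Z ≤ normalizer (H : Set G) →
      ((Z.subgroupOf (normalizer (H : Set G))).Normal ↔
        ((cj y Z).subgroupOf (normalizer ((cj y H : Subgroup G) : Set G))).Normal) := by
    intro Z hZ
    rw [normal_subgroupOf_iff_le_normalizer hZ,
      normal_subgroupOf_iff_le_normalizer (hN ▸ cj_mono y hZ), ← hN, ← cj_normalizer]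
    exact (map_le_map_iff_of_injective hinj).symm
  refine ⟨hP ▸ cj_mono y h1, ?_, ?_, ?_, ?_, cj_mono y h6, hN ▸ cj_mono y h7,
    (hnormal X h7).mp h8, ?_, ?_⟩
  · rw [← hN, ← hP]
    rwa [← Subgroup.map_inf _ _ _ hinj, relIndex_map_map_of_injective _ _ hinj]
  · rw [← hC, ← hP, ← Subgroup.map_inf _ _ _ hinj]
    exact cj_mono y h3
  · rw [← hC, ← map_subgroup_pPrimePCore f _ hN, h4]
    exact Subgroup.map_sup _ _ _
  · intro hc
    refine h5 (connected_of_mulEquiv (QuotientGroup.congr _ _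
      ((equivMapOfInjective _ f.toMonoidHom hinj).trans (MulEquiv.subgroupCongr hN)) ?_).symm hc)
    ext z
    constructor
    · rintro ⟨w, hw, rfl⟩
      exact conj_mem_cj (mem_subgroupOf.mp hw)
    · intro hz
      obtain ⟨w, hw, hwz⟩ := mem_subgroupOf.mp hz
      exact ⟨⟨w, le_normalizer hw⟩, hw, Subtype.ext hwz⟩
  · rwa [relIndex_map_map_of_injective _ _ hinj]
  · intro Y hY1 hY2 hY3 hY4
    have e : cj y (cj y⁻¹ Y) = Y := cj_cj_inv y Y
    have g2 : cj y⁻¹ Y ≤ normalizer (H : Set G) := by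
      rw [← cj_inv_cj y (normalizer (H : Set G)), hN]; exact cj_mono _ hY2
    have g1 : H ≤ cj y⁻¹ Y := by rw [← cj_inv_cj y H]; exact cj_mono _ hY1
    rw [← e]
    refine cj_mono y (h10 _ g1 g2 ((hnormal _ g2).mpr (by rwa [e])) ?_)
    rw [← relIndex_map_map_of_injective H (cj y⁻¹ Y) hinj]
    rwa [show (cj y⁻¹ Y).map f.toMonoidHom = Y from e]

/-- Transport of chains by an element normalizing `P`. -/
theorem StrongSteps.conj [Finite G] [Fact p.Prime] {P : Subgroup G} {y : G}
    (hy : y ∈ normalizer (P : Set G)) (l : List (Subgroup G × Subgroup G × G)) :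
    ∀ {Q : Subgroup G}, StrongSteps p P Q l →
      StrongSteps p P (cj y Q) (l.map fun t => (cj y t.1, cj y t.2.1, y * t.2.2 * y⁻¹)) := by
  induction l with
  | nil => exact fun _ => trivial
  | cons a l ih =>
    intro Q hs
    refine ⟨hs.1.conj hy, ?_, cj_mono y hs.2.2.1, ?_⟩
    · show y * a.2.2 * y⁻¹ ∈ _
      rw [cj, ← map_subgroup_pResidual]
      exact conj_mem_cj hs.2.1
    · show StrongSteps p P (cj (y * a.2.2 * y⁻¹)⁻¹ (cj y Q)) _
      have := ih hs.2.2.2
      rw [cj_cj] at this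
      rw [cj_cj, show (y * a.2.2 * y⁻¹)⁻¹ * y = y * a.2.2⁻¹ by group]
      exact this

theorem strongProd_conj (y : G) (l : List (Subgroup G × Subgroup G × G)) :
    strongProd (l.map fun t => (cj y t.1, cj y t.2.1, y * t.2.2 * y⁻¹)) =
      y * strongProd l * y⁻¹ := by
  induction l with
  | nil => simp [strongProd]
  | cons a l ih =>
    simp only [strongProd, List.map_cons, List.prod_cons] at ih ⊢
    rw [ih]
    group

theorem StrongGood.trans [Finite G] [Fact p.Prime] {P Q : Subgroup G} {g h : G}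
    (hg : StrongGood p P Q g) (hh : StrongGood p P (cj g⁻¹ Q) h) : StrongGood p P Q (g * h) := by
  obtain ⟨c, hc, l, y, hy, hs, rfl⟩ := hg
  obtain ⟨c', hc', l', y', hy', hs', rfl⟩ := hh
  set g := c * strongProd l * y
  have hc'' : g * c' * g⁻¹ ∈ centralizer (Q : Set G) := by
    intro q hq
    have h1 := hc' _ (mem_cj.mpr (by simpa [mul_assoc] using hq) : g⁻¹ * q * g ∈ cj g⁻¹ Q)
    calc q * (g * c' * g⁻¹) = g * (g⁻¹ * q * g * c') * g⁻¹ := by group
      _ = g * (c' * (g⁻¹ * q * g)) * g⁻¹ := by rw [h1]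
      _ = g * c' * g⁻¹ * q := by group
  refine ⟨g * c' * g⁻¹ * c, mul_mem hc'' hc,
    l ++ l'.map (fun t => (cj y t.1, cj y t.2.1, y * t.2.2 * y⁻¹)), y * y', mul_mem hy hy',
    StrongSteps.append _ _ hs ?_, ?_⟩
  · have := hs'.conj hy l'
    have e : cj y (cj g⁻¹ Q) = cj (strongProd l)⁻¹ Q := by
      rw [cj_cj, show y * g⁻¹ = (strongProd l)⁻¹ * c⁻¹ by simp only [g]; group, ← cj_cj,
        cj_eq_self_of_mem (centralizer_le_normalizer _ (inv_mem hc))]
    rwa [e] at this
  · rw [show strongProd (l ++ l'.map (fun t => (cj y t.1, cj y t.2.1, y * t.2.2 * y⁻¹))) =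
      strongProd l * (y * strongProd l' * y⁻¹) by
        rw [← strongProd_conj]; simp [strongProd]]
    simp only [g]
    group

variable [Finite G] [hp : Fact p.Prime]

theorem card_lt_card_of_lt_subgroup {A B : Subgroup G} (h : A < B) : Nat.card A < Nat.card B :=
  Set.Finite.card_lt_card (Set.toFinite _) h

/-- The induction step at a fully normalized subgroup. -/
theorem strongGood_normalizer (P : Sylow p G) {R : Subgroup G} (hRP : R ≤ (P : Subgroup G))
    (hS : IsSylowIn p (normalizer (R : Set G)) ((P : Subgroup G) ⊓ normalizer (R : Set G)))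
    (IH : ∀ R' : Subgroup G, R < R' → R' ≤ (P : Subgroup G) → ∀ g : G,
      cj g⁻¹ R' ≤ (P : Subgroup G) → StrongGood p (P : Subgroup G) R' g)
    {n : G} (hn : n ∈ normalizer (R : Set G)) : StrongGood p (P : Subgroup G) R n := by
  have hRp : IsPGroup p R := P.2.to_le hRP
  set N := normalizer (R : Set G) with hNdef
  set C := centralizer (R : Set G) with hCdef
  have hCN : C ≤ N := centralizer_le_normalizer _
  have hNC : N ≤ normalizer (C : Set G) :=
    centralizer_le_pPrimePCore.normalizer_le_normalizer_centralizer_aux R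
  have hgrow : ∀ R' : Subgroup G, R ≤ R' → R' ≤ (P : Subgroup G) → ¬ R' ≤ R →
      ∀ x ∈ normalizer (R' : Set G), StrongGood p (P : Subgroup G) R x := fun R' h1 h2 h3 x hx =>
    StrongGood.mono h1 (IH R' (lt_of_le_not_ge h1 h3) h2 x
      ((cj_eq_self_of_mem (inv_mem hx)).le.trans h2))
  -- the centraliser
  have hSC : IsSylowIn p C ((P : Subgroup G) ⊓ C) := by
    have := hS.inf_normal hCN hNC
    rwa [inf_assoc, inf_eq_right.mpr hCN] at this
  by_cases hcen : (P : Subgroup G) ⊓ C ≤ R
  swap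
  · obtain ⟨c, hc, hcn⟩ := exists_mul_mem_normalizer hSC hNC hn
    have hR' : c * n ∈ normalizer ((R ⊔ ((P : Subgroup G) ⊓ C) : Subgroup G) : Set G) := by
      apply mem_normalizer_of_cj_le
      rw [Functor.cj, Subgroup.map_sup]
      exact sup_le_sup (cj_eq_self_of_mem (mul_mem (hCN hc) hn)).le (cj_eq_self_of_mem hcn).le
    rw [show n = c⁻¹ * (c * n) by group]
    exact StrongGood.mul_left (inv_mem hc) (hgrow _ le_sup_left (sup_le hRP inf_le_left)
      (fun h => hcen (le_sup_right.trans h)) _ hR')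
  -- `O_{p',p}`
  set K := (Cfsg.pPrimePCore p N).map N.subtype with hKdef
  set O := (Cfsg.pPrimeCore p N).map N.subtype with hOdef
  haveI := PSolvable.pPrimePCore_normal (p := p) (G := N)
  have hKN : K ≤ N := map_subtype_le _
  have hNK : N ≤ normalizer (K : Set G) := by
    rw [← normal_subgroupOf_iff_le_normalizer hKN, subgroupOf,
      comap_map_eq_self_of_injective N.subtype_injective]
    infer_instance
  haveI hRn : (R.subgroupOf N).Normal := normal_in_normalizer
  have hRcore : R ≤ (Cfsg.pCore p N).map N.subtype := fun r hr =>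
    ⟨⟨r, le_normalizer hr⟩, PSolvable.le_pCore (N := R.subgroupOf N) hRp.comap_subtype hr, rfl⟩
  have hRK : R ≤ K := hRcore.trans (map_mono PSolvable.pCore_le_pPrimePCore)
  have hT : IsSylowIn p K ((P : Subgroup G) ⊓ K) := by
    have := hS.inf_normal hKN hNK
    rwa [inf_assoc, inf_eq_right.mpr hKN] at this
  have hOK : O ≤ K := map_mono PSolvable.pPrimeCore_le_pPrimePCore
  have hKeq : O ⊔ ((P : Subgroup G) ⊓ K) = K := by
    refine le_antisymm (sup_le hOK inf_le_right) (relIndex_eq_one.mp ?_)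
    have h1 : (O ⊔ ((P : Subgroup G) ⊓ K)).relIndex K ∣ ((P : Subgroup G) ⊓ K).relIndex K :=
      relIndex_dvd_of_le_left K le_sup_right
    have h2 : (O ⊔ ((P : Subgroup G) ⊓ K)).relIndex K ∣ O.relIndex K :=
      relIndex_dvd_of_le_left K le_sup_left
    have h3 : O.relIndex K = (Cfsg.pPrimeCore p N).relIndex (Cfsg.pPrimePCore p N) :=
      relIndex_map_map_of_injective _ _ N.subtype_injective
    have hpq : IsPGroup p (↥(Cfsg.pPrimePCore p N) ⧸
        (Cfsg.pPrimeCore p N).subgroupOf (Cfsg.pPrimePCore p N)) := by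
      intro y
      obtain ⟨x, rfl⟩ := QuotientGroup.mk_surjective y
      obtain ⟨j, hj⟩ := PSolvable.pCore_isPGroup (p := p)
        ⟨((x : N) : ↥N ⧸ Cfsg.pPrimeCore p N), x.2⟩
      refine ⟨j, ?_⟩
      rw [← QuotientGroup.mk_pow, QuotientGroup.eq_one_iff, mem_subgroupOf, coe_pow,
        ← QuotientGroup.eq_one_iff, QuotientGroup.mk_pow]
      exact congrArg Subtype.val hj
    obtain ⟨j, hj⟩ := hpq.exists_card_eq
    have h4 : (Cfsg.pPrimeCore p N).relIndex (Cfsg.pPrimePCore p N) = p ^ j := hj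
    rw [h3, h4] at h2
    exact Nat.eq_one_of_dvd_coprimes ((hp.out.coprime_iff_not_dvd.mpr
      hT.not_dvd).symm.pow_right j) h1 h2
  have hOC : O ≤ C := by
    rintro _ ⟨a, ha, rfl⟩ b hb
    obtain ⟨b', hb', rfl⟩ := hRcore hb
    have h := commutator_eq_bot_iff_le_centralizer.mp
      (PSolvable.commutator_pCore_pPrimeCore (p := p) (G := N)) hb'
    exact (congrArg Subtype.val (mem_centralizer_iff.mp h a ha)).symm
  by_cases hTR : (P : Subgroup G) ⊓ K ≤ R
  swap
  · obtain ⟨k, hk, hkn⟩ := exists_mul_mem_normalizer hT hNK hn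
    have hk' : k⁻¹ ∈ ((O ⊔ ((P : Subgroup G) ⊓ K) : Subgroup G) : Set G) :=
      hKeq.ge (inv_mem hk)
    have hTO : (P : Subgroup G) ⊓ K ≤ normalizer (O : Set G) := by
      refine (inf_le_right.trans hKN).trans ?_
      rw [← normal_subgroupOf_iff_le_normalizer (map_subtype_le _), subgroupOf,
        comap_map_eq_self_of_injective N.subtype_injective]
      exact @Subgroup.normal_of_characteristic _ _ _ PSolvable.pPrimeCore_characteristic
    rw [coe_mul_of_right_le_normalizer_left _ _ hTO] at hk'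
    obtain ⟨o, ho, t, ht, hot⟩ := hk'
    rw [show n = o * (t * (k * n)) by
      rw [← mul_assoc, show o * t = k⁻¹ from hot, inv_mul_cancel_left]]
    exact StrongGood.mul_left (hOC ho)
      (hgrow _ (le_inf hRP hRK) inf_le_left hTR _ (mul_mem (le_normalizer ht) hkn))
  have hK : K = R ⊔ C := by
    refine le_antisymm ?_ (sup_le hRK ?_)
    · rw [← hKeq]
      exact sup_le (hOC.trans le_sup_right) (hTR.trans le_sup_left)
    · refine centralizer_le_pPrimePCore hRp ?_
      rwa [show R ⊓ C = (P : Subgroup G) ⊓ C from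
        le_antisymm (inf_le_inf_right C hRP) (le_inf hcen inf_le_right)]
  -- the quotient `N / R`
  set q := QuotientGroup.mk' (R.subgroupOf N) with hq
  have hqs : Function.Surjective q := QuotientGroup.mk'_surjective _
  have hRN : R ≤ N := le_normalizer
  set S₀ := (P : Subgroup G) ⊓ N with hS₀
  have hRS₀ : R ≤ S₀ := le_inf hRP hRN
  by_cases hdvd : p ∣ Nat.card (↥N ⧸ R.subgroupOf N)
  swap
  · have hRsy : IsSylowIn p N R := by
      refine ⟨hRN, hRp, ?_⟩
      rwa [relIndex, index_eq_card]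
    have he : R = S₀ := hRsy.eq_of_le hRS₀ inf_le_right hS.isPGroup
    have hRP' : R = (P : Subgroup G) := by
      by_contra hne
      exact (lt_inf_normalizer (p := p) P.2 hRP hne).ne he
    exact strongGood_of_mem_normalizer (hRP' ▸ hn)
  have hS₀R : ¬ S₀ ≤ R := by
    intro h
    refine hS.not_dvd ?_
    rw [show S₀ = R from le_antisymm h hRS₀, relIndex, index_eq_card]
    exact hdvd
  by_cases hconn : Cfsg.IsSylowChainConnected p (↥N ⧸ R.subgroupOf N)
  · obtain ⟨P', hP'⟩ := hS.exists_sylow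
    set T₀ := P'.mapSurjective hqs with hT₀
    -- elements over the Sylow subgroups linked to the given one
    have key : ∀ T : Sylow p (↥N ⧸ R.subgroupOf N), SylowGraph.Linked T₀ T →
        ∃ m : N, q m • T₀ = T ∧ StrongGood p (P : Subgroup G) R (m : G) := by
      intro T hlink
      induction hlink with
      | refl => exact ⟨1, by rw [map_one, one_smul],
          strongGood_of_mem_normalizer (one_mem _)⟩
      | @tail T₁ T₂ _ hadj ih =>
        obtain ⟨m, hm, hgood⟩ := ih
        obtain ⟨d, hd⟩ := MulAction.exists_smul_eq (↥N ⧸ R.subgroupOf N) T₀ T₂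
        obtain ⟨m', rfl⟩ := hqs d
        refine ⟨m', hd, ?_⟩
        set k := m⁻¹ * m' with hk
        -- the intersection pulled back to `S₀`
        have hne : (T₀ : Subgroup _) ⊓
            ((q k • T₀ : Sylow p (↥N ⧸ R.subgroupOf N)) : Subgroup (↥N ⧸ R.subgroupOf N)) ≠ ⊥ := by
          intro he
          have h2 : SylowGraph.Adj ((q m)⁻¹ • T₁) ((q m)⁻¹ • T₂) := hadj.smul _
          rw [← hm, ← hd, inv_smul_smul, smul_smul, ← map_inv, ← map_mul] at h2
          exact h2.2 he
        obtain ⟨z, hz, hz1⟩ := (bot_or_exists_ne_one _).resolve_left hne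
        set J := S₀ ⊓ Functor.cj (k : G) S₀ with hJ
        have hmemT₀ : ∀ w : N, q w ∈ (T₀ : Subgroup _) ↔ (w : G) ∈ S₀ := by
          intro w
          rw [hT₀, Sylow.coe_mapSurjective, ← mem_comap, comap_map_eq, QuotientGroup.ker_mk',
            sup_eq_left.mpr (hP' ▸ comap_mono hRS₀), hP', mem_subgroupOf]
        have hJR : R < J := by
          refine lt_of_le_not_ge (le_inf hRS₀ ?_) fun hle => hz1 ?_
          · calc R = Functor.cj (k : G) R := (cj_eq_self_of_mem k.2).symm
              _ ≤ _ := cj_mono _ hRS₀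
          obtain ⟨w, rfl⟩ := hqs z
          have hw1 := (hmemT₀ w).mp hz.1
          have hw2 : (w : G) ∈ Functor.cj (k : G) S₀ := by
            have h3 : q w ∈ ((q k • T₀ : Sylow p (↥N ⧸ R.subgroupOf N)) :
                Subgroup (↥N ⧸ R.subgroupOf N)) := hz.2
            rw [Sylow.coe_subgroup_smul, Subgroup.mem_pointwise_smul_iff_inv_smul_mem] at h3
            have h4 : q (k⁻¹ * w * k) ∈ (T₀ : Subgroup _) := by
              simpa [MulAut.smul_def, map_mul, map_inv] using h3
            rw [Functor.mem_cj]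
            exact (hmemT₀ _).mp h4
          exact (QuotientGroup.eq_one_iff w).mpr (mem_subgroupOf.mpr (hle ⟨hw1, hw2⟩))
        have hk1 : StrongGood p (P : Subgroup G) R (k : G) :=
          StrongGood.mono hJR.le (IH J hJR (inf_le_left.trans inf_le_left) (k : G) (by
            rw [cj_le_iff]
            intro t ht
            rw [inv_inv]
            exact (Functor.mem_cj.mp ht.2).1))
        have e : (m' : G) = (m : G) * (k : G) := by rw [hk]; push_cast; group
        rw [e]
        refine hgood.trans ?_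
        rwa [cj_eq_self_of_mem (inv_mem m.2)]
    obtain ⟨m, hm, hgood⟩ := key (q ⟨n, hn⟩ • T₀) (SylowGraph.linked_of_connected hconn _ _)
    have hmn : n = (m : G) * ((m : G)⁻¹ * n) := by group
    have hmem : (m : G)⁻¹ * n ∈ normalizer (S₀ : Set G) := by
      have h1 : q (m⁻¹ * ⟨n, hn⟩) • T₀ = T₀ := by
        rw [map_mul, map_inv, ← smul_smul, ← hm, inv_smul_smul]
      refine mem_normalizer_of_cj_le (cj_le_iff.mpr fun t ht => ?_)
      have ht' : q ⟨t, ht.2⟩ ∈ (T₀ : Subgroup _) := by
        rw [hT₀, Sylow.coe_mapSurjective]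
        exact mem_map_of_mem q (hP' ▸ mem_subgroupOf.mpr ht)
      have h2 := Subgroup.smul_mem_pointwise_smul _ (MulAut.conj (q (m⁻¹ * ⟨n, hn⟩))) _ ht'
      rw [← Sylow.coe_subgroup_smul, h1, MulAut.smul_def, MulAut.conj_apply, ← map_inv, ← map_mul,
        ← map_mul, hT₀, Sylow.coe_mapSurjective, ← mem_comap, comap_map_eq, QuotientGroup.ker_mk',
        sup_eq_left.mpr (hP' ▸ comap_mono hRS₀), hP', mem_subgroupOf] at h2
      simpa using h2
    rw [hmn]
    refine hgood.trans ?_
    rw [cj_eq_self_of_mem (inv_mem m.2)]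
    exact hgrow S₀ hRS₀ inf_le_left hS₀R _ hmem
  -- the disconnected case
  obtain ⟨Xq, hXn, hXp, hXmin⟩ := exists_least_normal_dvd hconn hdvd
  set X := (Xq.comap q).map N.subtype with hXdef
  have hXN : X ≤ N := map_subtype_le _
  have hRX : R ≤ X := by
    intro r hr
    refine ⟨⟨r, hRN hr⟩, ?_, rfl⟩
    rw [SetLike.mem_coe, mem_comap,
      show q ⟨r, hRN hr⟩ = 1 from (QuotientGroup.eq_one_iff _).mpr hr]
    exact one_mem _
  have hXsub : X.subgroupOf N = Xq.comap q := comap_map_eq_self_of_injective N.subtype_injective _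
  have hcard : ∀ Y : Subgroup G, Y ≤ N →
      Nat.card ((Y.subgroupOf N).map q) = R.relIndex Y := by
    intro Y hY
    have h1 := Subgroup.relIndex_ker (K := Y.subgroupOf N) (f := q)
    rw [QuotientGroup.ker_mk', relIndex_subgroupOf hY] at h1
    exact h1.symm
  have hXdvd : p ∣ R.relIndex X := by
    rwa [← hcard X hXN, hXsub, map_comap_eq_self_of_surjective hqs]
  have hXNn : (X.subgroupOf N).Normal := hXsub ▸ hXn.comap q
  have hNX : N ≤ normalizer (X : Set G) := (normal_subgroupOf_iff_le_normalizer hXN).mp hXNn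
  have hlink : StrongLink p (P : Subgroup G) R X := by
    refine ⟨hRP, hS.not_dvd, hcen, hK, hconn, hRX, hXN, hXNn, hXdvd, fun Y h1 h2 h3 h4 => ?_⟩
    have h5 := hXmin ((Y.subgroupOf N).map q) (h3.map q hqs) (by rwa [hcard Y h2])
    rw [hXdef, map_le_iff_le_comap]
    intro x hx
    have h6 := h5 (mem_comap.mp hx)
    rw [← mem_comap, comap_map_eq, QuotientGroup.ker_mk', sup_eq_left.mpr (show R.subgroupOf N ≤ Y.subgroupOf N from comap_mono h1)] at h6
    exact h6
  have hsX : IsSylowIn p X ((P : Subgroup G) ⊓ X) := by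
    have := hS.inf_normal hXN hNX
    rwa [inf_assoc, inf_eq_right.mpr hXN] at this
  obtain ⟨k, hk, hkn⟩ := exists_mul_mem_normalizer hsX hNX hn
  have hTR' : ¬ (P : Subgroup G) ⊓ X ≤ R := by
    intro h
    refine hsX.not_dvd ?_
    rwa [show (P : Subgroup G) ⊓ X = R from le_antisymm h (le_inf hRP hRX)]
  obtain ⟨PX, hPX⟩ := hsX.exists_sylow
  have hdec : (⟨k⁻¹, inv_mem hk⟩ : X) ∈
      ((Cfsg.pResidual p X ⊔ (PX : Subgroup X) : Subgroup X) : Set X) := by
    rw [pResidual_sup_sylow]; trivial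
  haveI := pResidual_normal (p := p) (G := X)
  rw [normal_mul] at hdec
  obtain ⟨r, hr, t, ht, hrt⟩ := hdec
  have ht' : (t : G) ∈ (P : Subgroup G) ⊓ X := mem_subgroupOf.mp (hPX ▸ ht)
  have e : n = (r : G) * ((t : G) * (k * n)) := by
    have : (r : G) * t = k⁻¹ := congrArg Subtype.val hrt
    rw [← mul_assoc, this, inv_mul_cancel_left]
  rw [e]
  refine StrongGood.trans ⟨1, one_mem _, [(R, X, (r : G))], 1, one_mem _,
    ⟨hlink, mem_map_of_mem _ hr, le_rfl, trivial⟩, by simp [strongProd]⟩ ?_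
  rw [cj_eq_self_of_mem (inv_mem (hXN r.2))]
  exact hgrow _ (le_inf hRP hRX) inf_le_left hTR' _ (mul_mem (le_normalizer ht') hkn)

/-- **Alperin–Goldschmidt, strong form.** -/
theorem strongGood_of_conj_le (P : Sylow p G) :
    ∀ (Q : Subgroup G), Q ≤ (P : Subgroup G) → ∀ g : G, cj g⁻¹ Q ≤ (P : Subgroup G) →
      StrongGood p (P : Subgroup G) Q g := by
  suffices H : ∀ (m : ℕ) (Q : Subgroup G), Q ≤ (P : Subgroup G) →
      Nat.card (P : Subgroup G) - Nat.card Q ≤ m → ∀ g : G, cj g⁻¹ Q ≤ (P : Subgroup G) →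
      StrongGood p (P : Subgroup G) Q g from fun Q hQ => H _ Q hQ le_rfl
  intro m
  induction m using Nat.strong_induction_on with
  | _ m ih =>
  intro Q hQP hm g hg
  have IH : ∀ R : Subgroup G, Nat.card Q < Nat.card R → R ≤ (P : Subgroup G) → ∀ g : G,
      cj g⁻¹ R ≤ (P : Subgroup G) → StrongGood p (P : Subgroup G) R g := by
    intro R hlt hR g hg
    have := card_le_of_le hR
    exact ih (Nat.card (P : Subgroup G) - Nat.card R) (by omega) R hR le_rfl g hg
  have hP := isSylowIn_top_of_sylow P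
  by_cases hQeq : Q = (P : Subgroup G)
  · refine strongGood_of_mem_normalizer ?_
    rw [← inv_inv g]
    exact inv_mem (mem_normalizer_of_cj_le (hQeq ▸ hg))
  obtain ⟨h, hhP, hhN, hhS⟩ := exists_fullyNormalized hP hQP
  set R := cj h Q with hR
  set Q' := cj g⁻¹ Q with hQ'
  have hQ'ne : Q' ≠ (P : Subgroup G) := fun e => hQeq (eq_of_le_of_card_ge hQP (by
    rw [← e, hQ', card_cj]))
  have hh0 : cj (h * g) Q' = R := by rw [hQ', cj_cj, mul_inv_cancel_right]
  obtain ⟨n, hn, hnle⟩ := hhS.exists_cj_le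
    (Q := cj (h * g) ((P : Subgroup G) ⊓ normalizer (Q' : Set G)))
    ((cj_mono _ inf_le_right).trans (by rw [cj_normalizer, hh0]))
    (isPGroup_cj (P.2.to_le inf_le_left))
  have step1 : StrongGood p (P : Subgroup G) Q h⁻¹ := by
    refine StrongGood.mono (le_inf hQP le_normalizer) (IH _
      (card_lt_card_of_lt_subgroup (lt_inf_normalizer P.2 hQP hQeq)) inf_le_left h⁻¹ ?_)
    rw [inv_inv]
    exact hhN.trans inf_le_left
  have step2 : StrongGood p (P : Subgroup G) R n⁻¹ :=
    strongGood_normalizer P hhP hhS (fun R' hlt hR' g' hg' => IH R'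
      (by rw [← card_cj h Q, ← hR]; exact card_lt_card_of_lt_subgroup hlt) hR' g' hg')
      (inv_mem hn)
  have step3 : StrongGood p (P : Subgroup G) R (n * (h * g)) := by
    refine StrongGood.mono ?_ (IH (cj n (cj (h * g) ((P : Subgroup G) ⊓ normalizer (Q' : Set G))))
      ?_ (hnle.trans inf_le_left) _ ?_)
    · refine le_trans (le_of_eq ?_) (cj_mono n (cj_mono _ (le_inf hg le_normalizer)))
      rw [hh0, cj_eq_self_of_mem hn]
    · rw [card_cj, card_cj, ← card_cj g⁻¹ Q, ← hQ']
      exact card_lt_card_of_lt_subgroup (lt_inf_normalizer P.2 hg hQ'ne)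
    · rw [cj_cj, cj_cj, show (n * (h * g))⁻¹ * n * (h * g) = 1 by group, cj_one]
      exact inf_le_left
  have e : g = h⁻¹ * (n⁻¹ * (n * (h * g))) := by group
  rw [e]
  refine step1.trans ?_
  rw [inv_inv, ← hR]
  refine step2.trans ?_
  rwa [inv_inv, cj_eq_self_of_mem hn]

end Cfsg.Agent.Lib.Transfer
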