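import Cfsg.Agent.Lib.ConjFunctor.Alperin
import Cfsg.Agent.Lib.Functor.Core
import Cfsg.Agent.Lib.Functor.TransferControl

/-!
# A conjugacy functor `W` together with a central functor `V`

Fusion is reached from the normalizers of the well placed subgroups containing `Z(S)`; along the
tower of such a subgroup the normalizers of the values of `W` take over, and the centralizers of the
values of `V` lie in `C(V S)`.
-/

namespace Cfsg.Agent.Lib.Transfer

open Subgroup Cfsg
open Cfsg.Agent.Lib.Functor

variable {G : Type*} [Group G] [Finite G] {p : ℕ} [Fact p.Prime]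
  {W V : Subgroup G → Subgroup G} {S : Subgroup G}

/-- The hypotheses on a pair of functors. -/
structure CentralPair (p : ℕ) (W V : Subgroup G → Subgroup G) (S : Subgroup G) : Prop where
  sylow : Functor.IsSylowIn p ⊤ S
  ne_bot : S ≠ ⊥
  functorW : IsConjugacyFunctor p W
  functorV : IsConjugacyFunctor p V
  center_le : ∀ H : Subgroup G, IsPGroup p H → H ⊓ centralizer (H : Set G) ≤ W H
  mono : ∀ H K : Subgroup G, IsPGroup p H → IsPGroup p K → H ≠ ⊥ → K ≠ ⊥ →
    H ⊓ centralizer (H : Set G) ≤ K ⊓ centralizer (K : Set G) → V H ≤ V K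

/-- The centre of the Sylow subgroup, inside the ambient group. -/
abbrev zc (S : Subgroup G) : Subgroup G := S ⊓ centralizer (S : Set G)

theorem zc_le_inf_normalizer {T : Subgroup G} (hT : T ≤ S) :
    zc S ≤ S ⊓ normalizer (T : Set G) :=
  inf_le_inf_left _ ((centralizer_le hT).trans (centralizer_le_normalizer _))

theorem zc_le_zc {Q : Subgroup G} (hQS : Q ≤ S) (hQ : zc S ≤ Q) : zc S ≤ zc Q :=
  le_inf hQ (inf_le_right.trans (centralizer_le hQS))

theorem CentralPair.zc_ne_bot (h : CentralPair p W V S) : zc S ≠ ⊥ := by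
  intro he
  haveI : Nontrivial S := (Subgroup.nontrivial_iff_ne_bot S).mpr h.ne_bot
  haveI := h.sylow.isPGroup.center_nontrivial
  obtain ⟨z, hz⟩ := exists_ne (1 : center S)
  have hmem : ((z : S) : G) ∈ zc S := ⟨(z : S).2, fun s hs =>
    congrArg Subtype.val (mem_center_iff.mp z.2 ⟨s, hs⟩)⟩
  rw [he, mem_bot] at hmem
  exact hz (Subtype.ext (Subtype.ext hmem))

theorem CentralPair.zc_le_W (h : CentralPair p W V S) {Q : Subgroup G} (hQS : Q ≤ S)
    (hQ : zc S ≤ Q) : zc S ≤ W Q :=
  (zc_le_zc hQS hQ).trans (h.center_le Q (h.sylow.isPGroup.to_le hQS))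

theorem CentralPair.centralizer_V_le (h : CentralPair p W V S) {Q : Subgroup G} (hQS : Q ≤ S)
    (hQ : zc S ≤ Q) : centralizer (V Q : Set G) ≤ centralizer (V S : Set G) := by
  refine centralizer_le (h.mono S Q h.sylow.isPGroup (h.sylow.isPGroup.to_le hQS) h.ne_bot ?_
    (zc_le_zc hQS hQ))
  exact fun he => h.zc_ne_bot (le_bot_iff.mp (he ▸ hQ))

/-- Induction along the towers. -/
theorem CentralPair.tower_induction (h : CentralPair p W V S) (P : Subgroup G → Prop)
    (hstep : ∀ T : Subgroup G, IsWellPlaced p W S T → zc S ≤ T →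
      (S ⊓ normalizer (T : Set G) ≠ S → P (W (S ⊓ normalizer (T : Set G)))) → P T) :
    ∀ T : Subgroup G, IsWellPlaced p W S T → zc S ≤ T → P T := by
  suffices H : ∀ n : ℕ, ∀ T : Subgroup G, IsWellPlaced p W S T → zc S ≤ T →
      Nat.card S - Nat.card ↥(S ⊓ normalizer (T : Set G)) ≤ n → P T from
    fun T h1 h2 => H _ T h1 h2 le_rfl
  intro n
  induction n with
  | zero =>
    intro T h1 h2 hn
    refine hstep T h1 h2 fun hne => absurd (eq_of_le_of_card_ge inf_le_left ?_) hne
    omega
  | succ n ih =>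
    intro T h1 h2 hn
    refine hstep T h1 h2 fun hne => ?_
    set Q := S ⊓ normalizer (T : Set G) with hQdef
    have hQp : IsPGroup p Q := h.sylow.isPGroup.to_le inf_le_left
    have hwp : IsWellPlaced p W S (W Q) := by
      refine ⟨((h.functorW Q hQp).1).trans inf_le_left, fun i => ?_⟩
      have e : Cfsg.functorTower W S T 1 = W Q := rfl
      rw [← e, ConjFunctor.functorTower_shift]
      exact h1.2 (i + 1)
    refine ih _ hwp (h.zc_le_W inf_le_left (zc_le_inf_normalizer h1.1)) ?_
    have hlt : Q < S ⊓ normalizer (W Q : Set G) :=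
      lt_of_lt_of_le (Functor.lt_inf_normalizer (p := p) h.sylow.isPGroup inf_le_left hne)
        (inf_le_inf_left _ (normalizer_le_normalizer_functor h.functorW hQp))
    have hc : Nat.card Q < Nat.card ↥(S ⊓ normalizer (W Q : Set G)) :=
      Set.Finite.card_lt_card (Set.toFinite _) hlt
    have hle : Nat.card ↥(S ⊓ normalizer (W Q : Set G)) ≤ Nat.card S := card_le_of_le inf_le_left
    omega

/-- A relation stable under composition holds for all fusion in `S` once it holds in the
normalizers of the well placed subgroups containing `Z(S)`. -/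
theorem CentralPair.rel_of_wellPlaced (h : CentralPair p W V S)
    (R : Subgroup G → G → Prop)
    (hmono : ∀ (B B' : Subgroup G) (g : G), B' ≤ B → R B g → R B' g)
    (hcomp : ∀ (B : Subgroup G) (g k : G), B ≤ S → Functor.cj g B ≤ S →
      Functor.cj (k * g) B ≤ S → R B g → R (Functor.cj g B) k → R B (k * g))
    (hcongr : ∀ (B : Subgroup G) (g g' : G), (∀ b ∈ B, g * b * g⁻¹ = g' * b * g'⁻¹) →
      R B g → R B g')
    (hfix : ∀ T : Subgroup G, IsWellPlaced p W S T → zc S ≤ T →
      ∀ n ∈ normalizer (T : Set G), R T n) :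
    ∀ (B : Subgroup G) (g : G), B ≤ S → Functor.cj g B ≤ S → R B g := by
  suffices H : ∀ (m : ℕ) (B : Subgroup G) (g : G), Nat.card S - Nat.card B ≤ m → B ≤ S →
      Functor.cj g B ≤ S → R B g from fun B g hB hg => H _ B g le_rfl hB hg
  intro m
  induction m using Nat.strong_induction_on with
  | _ m ih =>
  intro B g hm hB hgB
  have hSi : ¬ p ∣ S.index := by rw [← relIndex_top_right]; exact h.sylow.not_dvd
  obtain ⟨a, haN, hwp⟩ := ConjFunctor.exists_wellPlaced h.functorW h.sylow.isPGroup hSi B hB
  have bigger : ∀ (U : Subgroup G) (x : G), Nat.card B < Nat.card U → U ≤ S →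
      Functor.cj x U ≤ S → R U x := by
    intro U x hlt hU hx
    have hUc : Nat.card U ≤ Nat.card S := card_le_of_le hU
    exact ih (Nat.card S - Nat.card U) (by omega) U x le_rfl hU hx
  by_cases hBS : B = S
  · subst hBS
    have e : Functor.cj a B = B :=
      eq_of_le_of_card_ge hwp.1 (by rw [card_cj])
    have hwp' : IsWellPlaced p W B B := by
      have := hwp
      rwa [show ConjFunctor.cj a B = B from e] at this
    exact hfix B hwp' inf_le_left g (mem_normalizer_of_cj_le hgB)
  set B' := Functor.cj a B with hB'def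
  have hB'S : B' ≤ S := hwp.1
  set N' := normalizer (B' : Set G) with hN'
  have hN'sy : Functor.IsSylowIn p N' (S ⊓ N') :=
    ⟨inf_le_right, h.sylow.isPGroup.to_le inf_le_left, hwp.2 0⟩
  have hB2N : Functor.cj g B ≤ S ⊓ normalizer ((Functor.cj g B : Subgroup G) : Set G) :=
    le_inf hgB le_normalizer
  set c := a * g⁻¹ with hc
  have hcB : Functor.cj c (Functor.cj g B) = B' := by
    rw [cj_cj, hc, inv_mul_cancel_right]
  obtain ⟨y, hy, hyle⟩ := hN'sy.exists_cj_le
    (Q := Functor.cj c (S ⊓ normalizer ((Functor.cj g B : Subgroup G) : Set G)))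
    (by
      refine (cj_mono c inf_le_right).trans (le_of_eq ?_)
      rw [cj_normalizer, hcB])
    (isPGroup_cj (h.sylow.isPGroup.to_le inf_le_left))
  rw [cj_cj] at hyle
  -- the first step
  have hltB : Nat.card B < Nat.card ↥(S ⊓ normalizer (B : Set G)) :=
    Set.Finite.card_lt_card (Set.toFinite _)
      (Functor.lt_inf_normalizer (p := p) h.sylow.isPGroup hB hBS)
  have h1 : R B a := hmono _ _ a (le_inf hB le_normalizer)
    (bigger _ a hltB inf_le_left haN)
  -- the middle step
  have hyB' : Functor.cj y B' = B' := cj_eq_self_of_mem hy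
  have h2 : R B' y := by
    by_cases hZ : zc S ≤ B'
    · exact hfix B' hwp hZ y hy
    set C := centralizer (B' : Set G) with hC
    have hCN : C ≤ N' := centralizer_le_normalizer _
    have hNC : N' ≤ normalizer (C : Set G) := by
      intro x hx
      refine mem_normalizer_of_cj_le (cj_le_iff.mpr fun z hz => ?_)
      intro w hw
      have hw' : x⁻¹ * w * x ∈ B' := (mem_normalizer_iff''.mp hx w).mp hw
      have := hz _ hw'
      calc w * (x * z * x⁻¹) = x * (x⁻¹ * w * x * z) * x⁻¹ := by group
        _ = x * (z * (x⁻¹ * w * x)) * x⁻¹ := by rw [this]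
        _ = x * z * x⁻¹ * w := by group
    have hD : Functor.IsSylowIn p C (S ⊓ C) := by
      have := hN'sy.inf_normal hCN hNC
      rwa [inf_assoc, inf_eq_right.mpr hCN] at this
    obtain ⟨d, hd, hdle⟩ := hD.exists_cj_le (Q := Functor.cj y (S ⊓ C))
      ((cj_mono y inf_le_right).trans (le_of_eq (cj_eq_self_of_mem (hNC hy))))
      (isPGroup_cj (h.sylow.isPGroup.to_le inf_le_left))
    rw [cj_cj] at hdle
    have hsame : ∀ b ∈ B', d * y * b * (d * y)⁻¹ = y * b * y⁻¹ := by
      intro b hb
      have hyb : y * b * y⁻¹ ∈ B' := (mem_normalizer_iff.mp hy b).mp hb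
      calc d * y * b * (d * y)⁻¹ = d * (y * b * y⁻¹) * d⁻¹ := by group
        _ = y * b * y⁻¹ * d * d⁻¹ := by rw [hd _ hyb]
        _ = y * b * y⁻¹ := by group
    have hU : B' < B' ⊔ (S ⊓ C) := by
      refine lt_of_le_of_ne le_sup_left fun he => hZ ?_
      calc zc S ≤ S ⊓ C := inf_le_inf_left _ (centralizer_le hB'S)
        _ ≤ B' := he.symm ▸ le_sup_right
    have hcard : Nat.card B < Nat.card ↥(B' ⊔ (S ⊓ C)) := by
      rw [← card_cj a B]
      exact Set.Finite.card_lt_card (Set.toFinite _) hU
    refine hcongr _ _ _ hsame (hmono _ _ _ le_sup_left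
      (bigger _ (d * y) hcard (sup_le hB'S inf_le_left) ?_))
    rw [Functor.cj, Subgroup.map_sup]
    refine sup_le ?_ (hdle.trans inf_le_left)
    refine cj_le_iff.mpr fun b hb => ?_
    rw [hsame b hb]
    exact hB'S ((mem_normalizer_iff.mp hy b).mp hb)
  -- the last step
  set U := Functor.cj (y * c) (S ⊓ normalizer ((Functor.cj g B : Subgroup G) : Set G)) with hUdef
  have hback : Functor.cj (y * c)⁻¹ U =
      S ⊓ normalizer ((Functor.cj g B : Subgroup G) : Set G) := cj_inv_cj _ _
  have h3 : R B' (y * c)⁻¹ := by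
    refine hmono U B' _ ?_ (bigger U _ ?_ (hyle.trans inf_le_left) (hback.le.trans inf_le_left))
    · calc B' = Functor.cj (y * c) (Functor.cj g B) := by rw [← cj_cj, hcB, hyB']
        _ ≤ U := cj_mono _ hB2N
    · rw [hUdef, card_cj]
      refine lt_of_le_of_lt (le_of_eq (card_cj g B).symm) ?_
      refine Set.Finite.card_lt_card (Set.toFinite _)
        (Functor.lt_inf_normalizer (p := p) h.sylow.isPGroup hgB fun he => hBS ?_)
      exact eq_of_le_of_card_ge hB (by rw [← he, card_cj])
  have e1 : Functor.cj (y * a) B = B' := by rw [← cj_cj, ← hB'def, hyB']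
  have e2 : (y * c)⁻¹ * (y * a) = g := by rw [hc]; group
  have h12 : R B (y * a) := hcomp B a y hB hB'S (e1 ▸ hB'S) h1 h2
  rw [← e2]
  refine hcomp B (y * a) (y * c)⁻¹ hB (e1 ▸ hB'S) (by rwa [e2]) h12 ?_
  rwa [e1]

/-! ### Transfer -/

/-- The transfer assertion in the normalizer of a well placed subgroup. -/
theorem CentralPair.inf_commutator_le (h : CentralPair p W V S) {Ω : Subgroup G}
    (hW : S ⊓ ⁅normalizer (W S : Set G), normalizer (W S : Set G)⁆ ≤ Ω)
    (hV : S ⊓ ⁅centralizer (V S : Set G), centralizer (V S : Set G)⁆ ≤ Ω)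
    (hloc : ∀ T : Subgroup G, IsWellPlaced p W S T → zc S ≤ T →
      (S ⊓ normalizer (T : Set G)) ⊓ ⁅normalizer (T : Set G), normalizer (T : Set G)⁆ ≤
        ((S ⊓ normalizer (T : Set G)) ⊓
          ⁅normalizer (T : Set G) ⊓ normalizer (W (S ⊓ normalizer (T : Set G)) : Set G),
            normalizer (T : Set G) ⊓ normalizer (W (S ⊓ normalizer (T : Set G)) : Set G)⁆) ⊔
        ((S ⊓ normalizer (T : Set G)) ⊓
          ⁅normalizer (T : Set G) ⊓ centralizer (V (S ⊓ normalizer (T : Set G)) : Set G),
            normalizer (T : Set G) ⊓ centralizer (V (S ⊓ normalizer (T : Set G)) : Set G)⁆)) :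
    S ⊓ ⁅(⊤ : Subgroup G), ⊤⁆ ≤ Ω := by
  have hgoal := h.tower_induction
    (fun T => (S ⊓ normalizer (T : Set G)) ⊓
      ⁅normalizer (T : Set G), normalizer (T : Set G)⁆ ≤ Ω) fun T hwp hZ hnext => by
    refine (hloc T hwp hZ).trans (sup_le ?_ ?_)
    · by_cases he : S ⊓ normalizer (T : Set G) = S
      · rw [he]
        exact (inf_le_inf_left _ (commutator_mono inf_le_right inf_le_right)).trans hW
      · refine le_trans ?_ (hnext he)
        exact inf_le_inf
          (le_inf inf_le_left (le_normalizer.trans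
            (normalizer_le_normalizer_functor h.functorW (h.sylow.isPGroup.to_le inf_le_left))))
          (commutator_mono inf_le_right inf_le_right)
    · refine le_trans (inf_le_inf inf_le_left (commutator_mono ?_ ?_)) hV <;>
        exact inf_le_right.trans
          (h.centralizer_V_le inf_le_left (zc_le_inf_normalizer hwp.1))
  refine inf_commutator_le_of_focal h.sylow fun x hx g _ hgx => ?_
  have key := h.rel_of_wellPlaced (TrRel Ω) (fun B B' g hle hr b hb => hr b (hle hb))
    (fun B g k h1 h2 h3 r1 r2 => (trRel_isFusionProp S Ω).comp h1 h2 h3 r1 r2)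
    (fun B g g' he hr b hb => by rw [← he b hb]; exact hr b hb)
    (fun T hwp hZ n hn b hb => hgoal T hwp hZ
      ⟨⟨S.mul_mem (S.inv_mem (hwp.1 hb)) (hwp.1 ((mem_normalizer_iff.mp hn b).mp hb)),
        (normalizer (T : Set G)).mul_mem ((normalizer (T : Set G)).inv_mem (le_normalizer hb))
          (le_normalizer ((mem_normalizer_iff.mp hn b).mp hb))⟩,
      inv_mul_conj_mem_commutator (le_normalizer hb) hn⟩)
    (zpowers x) g (zpowers_le.mpr hx)
    (by rw [Functor.cj, MonoidHom.map_zpowers]; exact zpowers_le.mpr hgx)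
  exact key x (mem_zpowers x)

/-! ### Strong fusion -/

/-- Conjugation by `a` on `A` is a product of steps in `M` with all images in `S`
(right conjugation). -/
def Via (M : Set G) (S : Subgroup G) (A : Set G) (a : G) : Prop :=
  ∃ l : List G, (∀ x ∈ l, x ∈ M) ∧
    (∀ k : ℕ, ∀ z ∈ A, (l.take k).prod⁻¹ * z * (l.take k).prod ∈ S) ∧
    ∀ z ∈ A, l.prod⁻¹ * z * l.prod = a⁻¹ * z * a

omit [Finite G] in
theorem Via.mono {M : Set G} {A A' : Set G} {a : G} (h : Via M S A a) (hA : A' ⊆ A) :
    Via M S A' a :=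
  h.imp fun _ hl => ⟨hl.1, fun k z hz => hl.2.1 k z (hA hz), fun z hz => hl.2.2 z (hA hz)⟩

omit [Finite G] in
theorem Via.congr {M : Set G} {A : Set G} {a a' : G} (h : Via M S A a)
    (he : ∀ z ∈ A, a⁻¹ * z * a = a'⁻¹ * z * a') : Via M S A a' :=
  h.imp fun _ hl => ⟨hl.1, hl.2.1, fun z hz => (hl.2.2 z hz).trans (he z hz)⟩

omit [Finite G] in
theorem Via.comp {M : Set G} {A : Set G} {a b : G} (h : Via M S A a)
    (h' : Via M S ((fun z => a⁻¹ * z * a) '' A) b) : Via M S A (a * b) := by
  obtain ⟨l, hl1, hl2, hl3⟩ := h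
  obtain ⟨m, hm1, hm2, hm3⟩ := h'
  refine ⟨l ++ m, ?_, ?_, ?_⟩
  · intro x hx
    rcases List.mem_append.mp hx with h | h
    · exact hl1 x h
    · exact hm1 x h
  · intro k z hz
    rw [List.take_append, List.prod_append]
    rcases le_or_gt k l.length with hk | hk
    · rw [Nat.sub_eq_zero_of_le hk, List.take_zero, List.prod_nil, mul_one]
      exact hl2 k z hz
    · rw [List.take_of_length_le hk.le]
      have := hm2 (k - l.length) _ ⟨z, hz, rfl⟩
      beta_reduce at this
      rw [← hl3 z hz] at this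
      simpa [mul_assoc] using this
  · intro z hz
    rw [List.prod_append]
    have := hm3 _ ⟨z, hz, rfl⟩
    beta_reduce at this
    calc (l.prod * m.prod)⁻¹ * z * (l.prod * m.prod)
        = m.prod⁻¹ * (l.prod⁻¹ * z * l.prod) * m.prod := by group
      _ = b⁻¹ * (a⁻¹ * z * a) * b := by rw [hl3 z hz, this]
      _ = (a * b)⁻¹ * z * (a * b) := by group

omit [Finite G] in
theorem Via.single {M : Set G} {A : Set G} {x : G} (hx : x ∈ M) (hA : A ⊆ S)
    (hxA : ∀ z ∈ A, x⁻¹ * z * x ∈ S) : Via M S A x := by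
  refine ⟨[x], by simpa using hx, fun k z hz => ?_, by simp⟩
  rcases Nat.eq_zero_or_pos k with rfl | hk
  · simpa using hA hz
  · rw [List.take_of_length_le (by simp; omega)]
    simpa using hxA z hz

/-- The fusion assertion. -/
theorem CentralPair.via_of_local (h : CentralPair p W V S)
    (hloc : ∀ T : Subgroup G, IsWellPlaced p W S T → zc S ≤ T →
      ∀ (A : Set G) (a : G), A ⊆ ((S ⊓ normalizer (T : Set G) : Subgroup G) : Set G) →
        a ∈ normalizer (T : Set G) → (∀ z ∈ A, a⁻¹ * z * a ∈ S ⊓ normalizer (T : Set G)) →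
        Via {x | x ∈ normalizer (T : Set G) ∧
          (x ∈ normalizer (W (S ⊓ normalizer (T : Set G)) : Set G) ∨
            x ∈ centralizer (V (S ⊓ normalizer (T : Set G)) : Set G))}
          (S ⊓ normalizer (T : Set G)) A a)
    (A : Set G) (a : G) (hA : A ⊆ S) (haA : ∀ z ∈ A, a⁻¹ * z * a ∈ S) :
    Via {x | x ∈ normalizer (W S : Set G) ∨ x ∈ centralizer (V S : Set G)} S A a := by
  set M := {x : G | x ∈ normalizer (W S : Set G) ∨ x ∈ centralizer (V S : Set G)} with hM
  have hgoal := h.tower_induction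
    (fun T => ∀ (A : Set G) (a : G), A ⊆ ((S ⊓ normalizer (T : Set G) : Subgroup G) : Set G) →
        a ∈ normalizer (T : Set G) → (∀ z ∈ A, a⁻¹ * z * a ∈ S ⊓ normalizer (T : Set G)) →
        Via M S A a) fun T hwp hZ hnext => by
    intro A a hA ha haA
    set Q := S ⊓ normalizer (T : Set G) with hQ
    obtain ⟨l, hl1, hl2, hl3⟩ := hloc T hwp hZ A a hA ha haA
    have hall : ∀ (l : List G) (A : Set G),
        (∀ x ∈ l, x ∈ normalizer (T : Set G) ∧ (x ∈ normalizer (W Q : Set G) ∨
          x ∈ centralizer (V Q : Set G))) →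
        (∀ k : ℕ, ∀ z ∈ A, (l.take k).prod⁻¹ * z * (l.take k).prod ∈ Q) →
        Via M S A l.prod := by
      intro l
      induction l with
      | nil =>
        intro A _ hk
        exact ⟨[], by simp, fun k z hz => by simpa using (hk 0 z hz).1, fun z _ => rfl⟩
      | cons x l ih =>
        intro A hx hk
        rw [List.prod_cons]
        have hA0 : A ⊆ (Q : Set G) := fun z hz => by simpa using hk 0 z hz
        have hA1 : ∀ z ∈ A, x⁻¹ * z * x ∈ Q := fun z hz => by simpa using hk 1 z hz
        refine Via.comp ?_ (ih _ (fun y hy => hx y (List.mem_cons_of_mem _ hy)) ?_)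
        · obtain ⟨-, hxW | hxV⟩ := hx x List.mem_cons_self
          · by_cases he : Q = S
            · exact Via.single (Or.inl (he ▸ hxW)) (fun z hz => (hA0 hz).1)
                (fun z hz => (hA1 z hz).1)
            · have hle : Q ≤ S ⊓ normalizer (W Q : Set G) := le_inf inf_le_left
                (le_normalizer.trans (normalizer_le_normalizer_functor h.functorW
                  (h.sylow.isPGroup.to_le inf_le_left)))
              exact hnext he A x (fun z hz => hle (hA0 hz)) hxW (fun z hz => hle (hA1 z hz))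
          · exact Via.single
              (Or.inr (h.centralizer_V_le inf_le_left (zc_le_inf_normalizer hwp.1) hxV))
              (fun z hz => (hA0 hz).1) (fun z hz => (hA1 z hz).1)
        · rintro k _ ⟨z, hz, rfl⟩
          have := hk (k + 1) z hz
          simpa [List.take_succ_cons, mul_assoc] using this
    exact (hall l A hl1 hl2).congr hl3
  have key := h.rel_of_wellPlaced (fun B g => Via M S (B : Set G) g⁻¹)
    (fun B B' g hle hr => hr.mono hle)
    (fun B g k _ _ _ r1 r2 => by
      rw [mul_inv_rev]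
      refine Via.comp r1 (r2.mono ?_)
      rintro _ ⟨z, hz, rfl⟩
      simpa using conj_mem_cj (g := g) hz)
    (fun B g g' he hr => hr.congr fun z hz => by simpa [mul_assoc] using he z hz)
    (fun T hwp hZ n hn => hgoal T hwp hZ T n⁻¹ (fun z hz => ⟨hwp.1 hz, le_normalizer hz⟩)
      (inv_mem hn) fun z hz => by
        rw [inv_inv]
        have := (mem_normalizer_iff.mp hn z).mp hz
        exact ⟨hwp.1 this, le_normalizer this⟩)
    (closure A) a⁻¹ ((closure_le _).mpr hA)
    (by
      rw [Functor.cj, MonoidHom.map_closure, closure_le]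
      rintro _ ⟨z, hz, rfl⟩
      simpa using haA z hz)
  rw [inv_inv] at key
  exact key.mono subset_closure

end Cfsg.Agent.Lib.Transfer
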