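import Cfsg.Agent.Lib.Transfer.Criteria
import Cfsg.Agent.Lib.Functor.Sections
import Cfsg.Prelude.Def_PLocal

/-!
# Conjugates of `Ω₁Z(S)` when the constrained sections factorize as `C(Ω₁Z(S*)) N(W(S*))`
-/

namespace Cfsg.Agent.Lib.Transfer

open Subgroup Cfsg
open Cfsg.Agent.Lib.Functor
open scoped commutatorElement

universe u

variable {p : ℕ}

theorem omegaOne_le {G : Type*} [Group G] (H : Subgroup G) : Cfsg.omegaOne p H ≤ H :=
  (closure_le _).mpr fun _ hx => hx.1

theorem map_omegaOne_center_le {G X : Type*} [Group G] [Group X] (f : G →* X) (S : Subgroup G) :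
    (Cfsg.omegaOne p (S ⊓ centralizer (S : Set G))).map f ≤
      Cfsg.omegaOne p (S.map f ⊓ centralizer ((S.map f : Subgroup X) : Set X)) := by
  rw [Cfsg.omegaOne, MonoidHom.map_closure, closure_le]
  rintro _ ⟨x, ⟨⟨hxS, hxc⟩, hxp⟩, rfl⟩
  refine subset_closure ⟨⟨mem_map_of_mem f hxS, ?_⟩, by rw [← map_pow, hxp, map_one]⟩
  rintro _ ⟨s, hs, rfl⟩
  rw [← map_mul, hxc s hs, map_mul]

/-- If the constrained sections factorize as `C(Ω₁Z(S*)) N(W(S*))`, a conjugate of an element of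
`Ω₁Z(S)` under the normalizer of a self-centralizing normal subgroup of `S` is a conjugate under
`N(W S)`. -/
theorem exists_normalizer_conj_of_factorization [hp : Fact p.Prime] {G : Type u} [Group G]
    [Finite G] {W : ∀ (Q : Type u) [Group Q], Subgroup Q} (hW : IsCharPFunctor.{u} p W)
    (hfac : ∀ (K R : Subgroup G) [(R.subgroupOf K).Normal],
      centralizer ((pCore p (↥K ⧸ R.subgroupOf K) : Subgroup (↥K ⧸ R.subgroupOf K)) :
          Set (↥K ⧸ R.subgroupOf K)) ≤ pCore p (↥K ⧸ R.subgroupOf K) →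
      ∀ T : Sylow p (↥K ⧸ R.subgroupOf K), ∀ x : (↥K ⧸ R.subgroupOf K),
        ∃ a ∈ centralizer ((Cfsg.omegaOne p ((T : Subgroup (↥K ⧸ R.subgroupOf K)) ⊓
            centralizer ((T : Subgroup (↥K ⧸ R.subgroupOf K)) : Set (↥K ⧸ R.subgroupOf K))) :
              Subgroup (↥K ⧸ R.subgroupOf K)) : Set (↥K ⧸ R.subgroupOf K)),
        ∃ b ∈ normalizer ((inducedFunctor (G := (↥K ⧸ R.subgroupOf K)) W
            (T : Subgroup (↥K ⧸ R.subgroupOf K)) : Subgroup (↥K ⧸ R.subgroupOf K)) :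
              Set (↥K ⧸ R.subgroupOf K)), x = a * b)
    (S : Sylow p G) {T : Subgroup G} (hTS : T ≤ (S : Subgroup G))
    (hTn : (S : Subgroup G) ≤ normalizer (T : Set G))
    (hC : (S : Subgroup G) ⊓ centralizer (T : Set G) ≤ T)
    {x : G} (hx : x ∈ normalizer (T : Set G)) {z : G}
    (hz : z ∈ Cfsg.omegaOne p ((S : Subgroup G) ⊓ centralizer ((S : Subgroup G) : Set G))) :
    ∃ n ∈ normalizer ((inducedFunctor W (S : Subgroup G) : Subgroup G) : Set G),
      x * z * x⁻¹ = n * z * n⁻¹ := by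
  set H := normalizer (T : Set G) with hH
  set T' := T.subgroupOf H with hT'
  haveI hT'n : T'.Normal := normal_subgroupOf_iff_le_normalizer le_normalizer |>.mpr le_rfl
  have hT'p : IsPGroup p T' := (S.2.to_le hTS).comap_subtype
  set S' := S.subtype hTn with hS'
  set K := pPrimeCore p H with hK
  haveI hKn : K.Normal :=
    @Subgroup.normal_of_characteristic _ _ _ PSolvable.pPrimeCore_characteristic
  have hKco : (Nat.card K).Coprime p := PSolvable.pPrimeCore_coprime
  set R := K.map H.subtype with hRdef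
  have hRK : R.subgroupOf H = K := comap_map_eq_self_of_injective H.subtype_injective K
  haveI hRn : (R.subgroupOf H).Normal := by rw [hRK]; exact hKn
  set f := QuotientGroup.mk' (R.subgroupOf H) with hf
  have hfs : Function.Surjective f := QuotientGroup.mk'_surjective _
  have hker : f.ker = K := by rw [hf, QuotientGroup.ker_mk', hRK]
  have hco : (Nat.card f.ker).Coprime p := by rw [hker]; exact hKco
  have hTK : ∀ a : H, ∀ t ∈ T', f (a * t * a⁻¹ * t⁻¹) = 1 → a * t * a⁻¹ = t := by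
    intro a t ht h
    have h1 : a * t * a⁻¹ * t⁻¹ ∈ K := by rw [← hker]; exact h
    have h2 : a * t * a⁻¹ * t⁻¹ ∈ T' := T'.mul_mem (hT'n.conj_mem t ht a) (T'.inv_mem ht)
    have h3 : a * t * a⁻¹ * t⁻¹ ∈ T' ⊓ K := ⟨h2, h1⟩
    rwa [PSolvable.inf_eq_bot_of_isPGroup_of_coprime hT'p hKco, mem_bot, mul_inv_eq_one] at h3
  -- the quotient is constrained
  set C' := centralizer (T' : Set H) with hC'
  haveI : C'.Normal := inferInstance
  have hsyl : ∀ Q : Sylow p C', ∀ q ∈ (Q : Subgroup C'), (q : H) ∈ T' := by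
    intro Q q hq
    obtain ⟨h, hh⟩ : ∃ h : H, ∀ r ∈ (Q : Subgroup C').map C'.subtype,
        h * r * h⁻¹ ∈ (S' : Subgroup H) := by
      obtain ⟨Q₁, hQ₁⟩ := (Q.2.map C'.subtype).exists_le_sylow
      obtain ⟨h, hh⟩ := MulAction.exists_smul_eq H Q₁ S'
      refine ⟨h, fun r hr => ?_⟩
      rw [← hh]
      exact Subgroup.smul_mem_pointwise_smul r (MulAut.conj h) (Q₁ : Subgroup H) (hQ₁ hr)
    have h1 : h * (q : H) * h⁻¹ ∈ (S' : Subgroup H) := hh _ ⟨q, hq, rfl⟩
    have h2 : h * (q : H) * h⁻¹ ∈ C' := Subgroup.Normal.conj_mem inferInstance _ q.2 h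
    have h3 : h * (q : H) * h⁻¹ ∈ T' := hC ⟨h1, fun t ht =>
      congrArg Subtype.val (h2 ⟨t, le_normalizer ht⟩ ht)⟩
    simpa [mul_assoc] using hT'n.conj_mem _ h3 h⁻¹
  have hnc : Cfsg.HasNormalPComplement p C' := by
    refine hasNormalPComplement_of_normalizer_le_centralizer default fun c _ q hq => ?_
    exact Subtype.ext (c.2 _ (hsyl default q hq))
  have hresK : (Cfsg.pResidual p C').map C'.subtype ≤ K := by
    haveI := pResidual_characteristic (p := p) (G := C')
    haveI : ((Cfsg.pResidual p C').map C'.subtype).Normal :=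
      ConjAct.normal_of_characteristic_of_normal
    refine PSolvable.le_pPrimeCore ?_
    rw [card_map_of_injective C'.subtype_injective]
    exact (hp.out.coprime_iff_not_dvd.mpr (hasNormalPComplement_iff.mp hnc)).symm
  have hcons : centralizer ((pCore p (↥H ⧸ R.subgroupOf H) : Subgroup (↥H ⧸ R.subgroupOf H)) :
      Set (↥H ⧸ R.subgroupOf H)) ≤ pCore p (↥H ⧸ R.subgroupOf H) := by
    haveI : (T'.map f).Normal := hT'n.map f hfs
    have hTcore : T'.map f ≤ pCore p (↥H ⧸ R.subgroupOf H) :=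
      PSolvable.le_pCore (hT'p.map f)
    intro y hy
    obtain ⟨a, rfl⟩ := hfs y
    have haC : a ∈ C' := by
      intro t ht
      have h1 := hy _ (hTcore (mem_map_of_mem f ht))
      have h2 := hTK a t ht (by
        simp only [map_mul, map_inv]
        rw [← h1, mul_inv_cancel_right, mul_inv_cancel])
      calc t * a = a * t * a⁻¹ * a := by rw [h2]
        _ = a * t := by group
    obtain ⟨Pc⟩ : Nonempty (Sylow p C') := inferInstance
    have hmem : (⟨a, haC⟩ : C') ∈ Cfsg.pResidual p C' ⊔ (Pc : Subgroup C') := by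
      rw [pResidual_sup_sylow]; trivial
    have hle : (Cfsg.pResidual p C' ⊔ (Pc : Subgroup C')).map C'.subtype ≤
        (pCore p (↥H ⧸ R.subgroupOf H)).comap f := by
      rw [Subgroup.map_sup, sup_le_iff]
      constructor
      · refine hresK.trans fun k hk => ?_
        rw [mem_comap, show f k = 1 from MonoidHom.mem_ker.mp (hker.symm ▸ hk)]
        exact one_mem _
      · rintro _ ⟨q, hq, rfl⟩
        exact hTcore (mem_map_of_mem f (hsyl Pc q hq))
    exact hle (mem_map_of_mem C'.subtype hmem)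
  -- the factorization
  have hzS : z ∈ (S : Subgroup G) := (omegaOne_le _ hz).1
  have hzT : z ∈ T := hC ⟨hzS, fun t ht => (omegaOne_le _ hz).2 t (hTS ht)⟩
  set z' : H := ⟨z, le_normalizer hzT⟩ with hz'
  have hz'Ω : z' ∈ Cfsg.omegaOne p ((S' : Subgroup H) ⊓
      centralizer ((S' : Subgroup H) : Set H)) := by
    have hsub : Cfsg.omegaOne p ((S : Subgroup G) ⊓ centralizer ((S : Subgroup G) : Set G)) ≤
        (Cfsg.omegaOne p ((S' : Subgroup H) ⊓ centralizer ((S' : Subgroup H) : Set H))).map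
          H.subtype := by
      refine (closure_le _).mpr ?_
      rintro y ⟨⟨hyS, hyc⟩, hyp⟩
      refine ⟨⟨y, hTn hyS⟩, subset_closure ⟨⟨hyS, fun s hs => Subtype.ext (hyc _ hs)⟩,
        Subtype.ext hyp⟩, rfl⟩
    obtain ⟨w, hw, hwz⟩ := hsub hz
    rwa [show w = z' from Subtype.ext hwz] at hw
  obtain ⟨a, ha, b, hb, hab⟩ := hfac H R hcons (S'.mapSurjective hfs) (f (⟨x, hx⟩ : H)⁻¹)
  obtain ⟨a', rfl⟩ := hfs a
  rw [Sylow.coe_mapSurjective,
    inducedFunctor_map hW S'.2 f (injOn_of_coprime_ker hco S'.2)] at hb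
  obtain ⟨n, hn, rfl⟩ := exists_normalizer_preimage hfs hco
    (S'.2.to_le (Functor.inducedFunctor_le _)) hb
  have haz : a' * z' * a'⁻¹ = z' := by
    refine hTK a' z' hzT ?_
    have := ha _ (map_omegaOne_center_le f _ (mem_map_of_mem f hz'Ω))
    simp only [map_mul, map_inv]
    rw [← this, mul_inv_cancel_right, mul_inv_cancel]
  -- `x⁻¹ = a' n k`
  set k := (a' * n)⁻¹ * (⟨x, hx⟩ : H)⁻¹ with hk
  have hkK : k ∈ K := by
    rw [← hker, MonoidHom.mem_ker, hk, map_mul, map_inv, map_mul, hab, inv_mul_cancel]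
  have hkT : ∀ t ∈ T', k * t * k⁻¹ = t := fun t ht => hTK k t ht (by
    simp [map_mul, map_inv, show f k = 1 from MonoidHom.mem_ker.mp (hker.symm ▸ hkK)])
  refine ⟨((n⁻¹ : H) : G), ?_, ?_⟩
  · have hmap : (S' : Subgroup H).map H.subtype = (S : Subgroup G) := by
      rw [hS', Sylow.coe_subtype, subgroupOf_map_subtype, inf_eq_left.mpr hTn]
    rw [← hmap, inducedFunctor_map hW S'.2 H.subtype H.subtype_injective.injOn]
    exact le_normalizer_map _ (mem_map_of_mem _ (inv_mem hn))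
  · have e : (⟨x, hx⟩ : H) * z' * (⟨x, hx⟩ : H)⁻¹ = n⁻¹ * z' * n := by
      have hw : n⁻¹ * z' * n ∈ T' := by simpa using hT'n.conj_mem z' hzT n⁻¹
      have e1 : (⟨x, hx⟩ : H) = k⁻¹ * n⁻¹ * a'⁻¹ := by rw [hk]; group
      rw [e1]
      calc k⁻¹ * n⁻¹ * a'⁻¹ * z' * (k⁻¹ * n⁻¹ * a'⁻¹)⁻¹
          = k⁻¹ * (n⁻¹ * (a'⁻¹ * z' * a') * n) * k := by group
        _ = k⁻¹ * (n⁻¹ * (a'⁻¹ * (a' * z' * a'⁻¹) * a') * n) * k := by rw [haz]
        _ = k⁻¹ * (n⁻¹ * z' * n) * k := by group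
        _ = k⁻¹ * (k * (n⁻¹ * z' * n) * k⁻¹) * k := by rw [hkT _ hw]
        _ = n⁻¹ * z' * n := by group
    simpa using congrArg Subtype.val e

/-- The normal closure of `Ω₁Z(S)` in `N(W₁ S)` consists of conjugates under `N(W₂ S)`. -/
theorem exists_normalizer_conj_of_mem_normalizer [hp : Fact p.Prime] {G : Type u} [Group G]
    [Finite G] {W₁ W₂ : ∀ (Q : Type u) [Group Q], Subgroup Q} (hW₁ : IsCharPFunctor.{u} p W₁)
    (hW₂ : IsCharPFunctor.{u} p W₂)
    (hfac : ∀ (K R : Subgroup G) [(R.subgroupOf K).Normal],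
      centralizer ((pCore p (↥K ⧸ R.subgroupOf K) : Subgroup (↥K ⧸ R.subgroupOf K)) :
          Set (↥K ⧸ R.subgroupOf K)) ≤ pCore p (↥K ⧸ R.subgroupOf K) →
      ∀ T : Sylow p (↥K ⧸ R.subgroupOf K), ∀ x : (↥K ⧸ R.subgroupOf K),
        ∃ a ∈ centralizer ((Cfsg.omegaOne p ((T : Subgroup (↥K ⧸ R.subgroupOf K)) ⊓
            centralizer ((T : Subgroup (↥K ⧸ R.subgroupOf K)) : Set (↥K ⧸ R.subgroupOf K))) :
              Subgroup (↥K ⧸ R.subgroupOf K)) : Set (↥K ⧸ R.subgroupOf K)),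
        ∃ b ∈ normalizer ((inducedFunctor (G := (↥K ⧸ R.subgroupOf K)) W₂
            (T : Subgroup (↥K ⧸ R.subgroupOf K)) : Subgroup (↥K ⧸ R.subgroupOf K)) :
              Set (↥K ⧸ R.subgroupOf K)), x = a * b)
    (S : Sylow p G)
    (hZ : Cfsg.omegaOne p ((S : Subgroup G) ⊓ centralizer ((S : Subgroup G) : Set G)) ≤
      inducedFunctor W₁ (S : Subgroup G))
    {x : G} (hx : x ∈ normalizer ((inducedFunctor W₁ (S : Subgroup G) : Subgroup G) : Set G))
    {z : G} (hz : z ∈ Cfsg.omegaOne p ((S : Subgroup G) ⊓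
      centralizer ((S : Subgroup G) : Set G))) :
    ∃ n ∈ normalizer ((inducedFunctor W₂ (S : Subgroup G) : Subgroup G) : Set G),
      x * z * x⁻¹ = n * z * n⁻¹ := by
  set U := inducedFunctor W₁ (S : Subgroup G) with hU
  set N := normalizer (U : Set G) with hN
  set C := centralizer (U : Set G) with hC
  have hUS : U ≤ (S : Subgroup G) := Functor.inducedFunctor_le _
  have hSN : (S : Subgroup G) ≤ N := le_normalizer_inducedFunctor hW₁ S.2
  have hCN : C ≤ N := centralizer_le_normalizer _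
  have hNC : N ≤ normalizer (C : Set G) := by
    intro y hy
    refine mem_normalizer_of_cj_le (cj_le_iff.mpr fun c hc u hu => ?_)
    have := hc _ ((mem_normalizer_iff''.mp hy u).mp hu)
    calc u * (y * c * y⁻¹) = y * (y⁻¹ * u * y * c) * y⁻¹ := by group
      _ = y * (c * (y⁻¹ * u * y)) * y⁻¹ := by rw [this]
      _ = y * c * y⁻¹ * u := by group
  have hD : Functor.IsSylowIn p C ((S : Subgroup G) ⊓ C) :=
    ((isSylowIn_top_of_sylow S).inter hSN le_top).inf_normal hCN hNC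
  set D := (S : Subgroup G) ⊓ C with hDdef
  obtain ⟨c, hc, hcle⟩ := hD.exists_cj_le (Q := Functor.cj x D)
    ((cj_mono x inf_le_right).trans (le_of_eq (cj_eq_self_of_mem (hNC hx))))
    (isPGroup_cj (S.2.to_le inf_le_left))
  rw [cj_cj] at hcle
  set T := U ⊔ D with hT
  have hcT : c * x ∈ normalizer (T : Set G) := by
    refine mem_normalizer_of_cj_le ?_
    rw [hT, Functor.cj, Subgroup.map_sup]
    exact sup_le_sup (le_of_eq (cj_eq_self_of_mem (mul_mem (hCN hc) hx))) hcle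
  have hTn : (S : Subgroup G) ≤ normalizer (T : Set G) := by
    intro s hs
    refine mem_normalizer_of_cj_le ?_
    rw [hT, Functor.cj, Subgroup.map_sup]
    refine sup_le_sup (le_of_eq (cj_eq_self_of_mem (hSN hs))) ?_
    rw [← Functor.cj, cj_le_iff]
    exact fun d hd => ⟨S.1.mul_mem (S.1.mul_mem hs hd.1) (S.1.inv_mem hs),
      (mem_normalizer_iff.mp (hNC (hSN hs)) d).mp hd.2⟩
  obtain ⟨n, hn, he⟩ := exists_normalizer_conj_of_factorization hW₂ hfac S
    (sup_le hUS inf_le_left) hTn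
    (le_trans (inf_le_inf_left _ (centralizer_le (le_sup_left : U ≤ T))) le_sup_right) hcT hz
  refine ⟨n, hn, he ▸ ?_⟩
  have hxz : x * z * x⁻¹ ∈ U := (mem_normalizer_iff.mp hx z).mp (hZ hz)
  calc x * z * x⁻¹ = x * z * x⁻¹ * c * c⁻¹ := by group
    _ = c * (x * z * x⁻¹) * c⁻¹ := by rw [hc _ hxz]
    _ = c * x * z * (c * x)⁻¹ := by group

end Cfsg.Agent.Lib.Transfer
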