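import Cfsg.Agent.Lib.Transfer.SmallDegreeAction
import Cfsg.Agent.Lib.Transfer.ThompsonReduction
import Cfsg.Agent.Lib.KInfinity.Quartic
import Cfsg.Agent.Lib.ConjFunctor.Engine
import Cfsg.Agent.Lib.Functor.Sections
import Cfsg.Agent.Lib.Functor.TransferCriteria

/-!
# `p`-stability when `O^p(X)'` is a `p`-group, and normal `p`-complements from strong fusion control
-/

namespace Cfsg.Agent.Lib.Transfer

open Subgroup Cfsg
open scoped commutatorElement

universe u

variable {p : ℕ}

theorem pResidual_le_map_of_surjective [hp : Fact p.Prime] {G X : Type*} [Group G] [Group X]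
    [Finite G] (f : G →* X) (hf : Function.Surjective f) :
    Cfsg.pResidual p X ≤ (Cfsg.pResidual p G).map f := by
  rw [pResidual_le_iff]
  intro y hy
  obtain ⟨x, rfl⟩ := hf y
  obtain ⟨k, hk⟩ := exists_pow_mem_pResidual (p := p) x
  obtain ⟨j, hj⟩ := exists_pow_eq_self_of_coprime (x := f x) (n := p ^ k)
    (hy.pow_right k).symm
  rw [← hj, ← map_pow, ← map_pow]
  exact mem_map_of_mem f (Subgroup.pow_mem _ hk j)

/-- The property "`O^p(X)'` is a `p`-group" passes to subgroups. -/
theorem isPGroup_derived_pResidual_subgroup {X : Type*} [Group X]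
    (hX : IsPGroup p ↥(⁅Cfsg.pResidual p X, Cfsg.pResidual p X⁆ : Subgroup X)) (H : Subgroup X) :
    IsPGroup p ↥(⁅Cfsg.pResidual p H, Cfsg.pResidual p H⁆ : Subgroup H) := by
  refine IsPGroup.of_equiv ?_
    (equivMapOfInjective (⁅Cfsg.pResidual p H, Cfsg.pResidual p H⁆ : Subgroup H) _
      H.subtype_injective).symm
  refine hX.to_le ?_
  rw [map_commutator]
  exact commutator_mono (pResidual_subgroup_le H) (pResidual_subgroup_le H)

/-- The property "`O^p(X)'` is a `p`-group" passes to quotients. -/
theorem isPGroup_derived_pResidual_of_surjective [Fact p.Prime] {X Y : Type*} [Group X] [Group Y]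
    [Finite X] (f : X →* Y) (hf : Function.Surjective f)
    (hX : IsPGroup p ↥(⁅Cfsg.pResidual p X, Cfsg.pResidual p X⁆ : Subgroup X)) :
    IsPGroup p ↥(⁅Cfsg.pResidual p Y, Cfsg.pResidual p Y⁆ : Subgroup Y) := by
  refine (hX.map f).to_le ?_
  rw [map_commutator]
  exact commutator_mono (pResidual_le_map_of_surjective f hf) (pResidual_le_map_of_surjective f hf)

/-- Elements of degree below `p` act trivially on chief factors of `p`-power order. -/
theorem commutator_le_of_smallDegree [Fact p.Prime] {X : Type*} [Group X] [Finite X]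
    (hX : IsPGroup p ↥(⁅Cfsg.pResidual p X, Cfsg.pResidual p X⁆ : Subgroup X))
    {U V : Subgroup X} (hUV : IsChiefFactor U V) (hU : IsPGroup p U) {g : X}
    (hg : iterCommutator U (zpowers g) (p - 1) ≤ V) : ⁅U, zpowers g⁆ ≤ V := by
  obtain ⟨hab, hexp⟩ := Functor.chiefFactor_abelian hUV hU
  obtain ⟨hlt, hUn, hVn, hmax⟩ := hUV
  set f := QuotientGroup.mk' V
  have hf := QuotientGroup.mk'_surjective V
  haveI : (U.map f).Normal := hUn.map f hf
  have hbot : ∀ H : Subgroup X, H ≤ V → H.map f = ⊥ := fun H h => by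
    rw [Subgroup.map_eq_bot_iff, QuotientGroup.ker_mk']; exact h
  have hmin : ∀ N : Subgroup (X ⧸ V), N.Normal → N ≤ U.map f → N = ⊥ ∨ N = U.map f := by
    intro N hN hNU
    have hmapc : (N.comap f).map f = N := map_comap_eq_self_of_surjective hf N
    rcases hmax (N.comap f) (hN.comap f)
      (fun v hv => by
        show f v ∈ N
        rw [show f v = 1 from (QuotientGroup.eq_one_iff v).mpr hv]; exact N.one_mem)
      ((comap_mono hNU).trans (by
        rw [comap_map_eq, QuotientGroup.ker_mk', sup_eq_left.mpr hlt.le])) with h | h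
    · left; rw [← hmapc, h]; exact hbot V le_rfl
    · right; rw [← hmapc, h]
  have hc : f g ∈ centralizer ((U.map f : Subgroup (X ⧸ V)) : Set (X ⧸ V)) := by
    refine mem_centralizer_of_smallDegree (isPGroup_derived_pResidual_of_surjective f hf hX)
      (hU.map f) hmin (by rw [← map_commutator]; exact hbot _ hab) ?_ ?_
    · rintro _ ⟨x, hx, rfl⟩
      rw [← map_pow]
      exact (QuotientGroup.eq_one_iff _).mpr (hexp x hx)
    · rw [← MonoidHom.map_zpowers, ← KInfinity.iterCommutator_map]
      exact hbot _ hg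
  refine KInfinity.commutator_zpowers_le le_normalizer_of_normal
    (by rw [normalizer_eq_top_iff.mpr hVn]; exact mem_top g) fun u hu => ?_
  refine (QuotientGroup.eq_one_iff _).mp ?_
  show f ⁅u, g⁆ = 1
  rw [map_commutatorElement, commutatorElement_eq_one_iff_mul_comm]
  exact hc _ (mem_map_of_mem f hu)

/-- A group `X` with `O^p(X)'` a `p`-group is `p`-stable, for odd `p`. -/
theorem isNormalizerPStable_of_pResidual [hp : Fact p.Prime] (hodd : p ≠ 2) {X : Type*} [Group X]
    [Finite X] (hX : IsPGroup p ↥(⁅Cfsg.pResidual p X, Cfsg.pResidual p X⁆ : Subgroup X)) :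
    Cfsg.IsNormalizerPStable p X := by
  intro P hP g hg hquad
  set N := normalizer (P : Set X) with hN
  set C := (centralizer (P : Set X)).subgroupOf N with hC
  set P' := P.subgroupOf N with hP'
  haveI : P'.Normal := normal_subgroupOf_iff_le_normalizer le_normalizer |>.mpr le_rfl
  have hP'p : IsPGroup p P' := hP.comap_subtype
  have hquad' : ⁅⁅P', zpowers (⟨g, hg⟩ : N)⁆, zpowers (⟨g, hg⟩ : N)⁆ = ⊥ := by
    apply map_injective N.subtype_injective
    rw [map_commutator, map_commutator, MonoidHom.map_zpowers, subgroupOf_map_subtype,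
      inf_eq_left.mpr le_normalizer, Subgroup.map_bot]
    exact hquad
  have hker : (⟨g, hg⟩ : N) ∈ KInfinity.seriesKer P' := by
    rw [KInfinity.mem_seriesKer]
    intro U V hUV hUP u hu
    haveI := hUV.2.1
    refine commutator_le_of_smallDegree (isPGroup_derived_pResidual_subgroup hX N) hUV
      (hP'p.to_le hUP) ?_ (commutator_mem_commutator hu (mem_zpowers _))
    have h2 : 2 ≤ p - 1 := by have := hp.out.two_le; omega
    refine (KInfinity.iterCommutator_antitone U (zpowers (⟨g, hg⟩ : N)) h2).trans ?_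
    show ⁅⁅U, zpowers (⟨g, hg⟩ : N)⁆, zpowers (⟨g, hg⟩ : N)⁆ ≤ V
    exact ((commutator_mono (commutator_mono hUP le_rfl) le_rfl).trans hquad'.le).trans bot_le
  haveI := KInfinity.seriesKer_normal P'
  let q : N →* N ⧸ C := QuotientGroup.mk' C
  haveI : ((KInfinity.seriesKer P').map q).Normal :=
    Subgroup.Normal.map inferInstance q (QuotientGroup.mk'_surjective C)
  have hp' : IsPGroup p ((KInfinity.seriesKer P').map q) := by
    refine KInfinity.isPGroup_of_coprime_eq_one q fun x hx hco => ?_
    refine (QuotientGroup.eq_one_iff x).mpr (mem_subgroupOf.mpr fun t ht => ?_)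
    exact congrArg Subtype.val
      (KInfinity.seriesKer_coprime_centralizes hP'p hx hco ⟨t, le_normalizer ht⟩ ht)
  exact PSolvable.le_pCore hp' (mem_map_of_mem q hker)

/-- `p`-stability is invariant under isomorphisms. -/
theorem isNormalizerPStable_of_mulEquiv {X Y : Type*} [Group X] [Group Y] (e : X ≃* Y)
    (hX : Cfsg.IsNormalizerPStable p X) : Cfsg.IsNormalizerPStable p Y := by
  intro P hP g hg hquad
  set P₀ := P.map e.symm.toMonoidHom with hP₀
  set N := normalizer (P : Set Y) with hN
  set N₀ := normalizer (P₀ : Set X) with hN₀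
  have hmapN : N₀ = N.map e.symm.toMonoidHom := (map_equiv_normalizer_eq P e.symm).symm
  have hg₀ : e.symm g ∈ N₀ := hmapN ▸ mem_map_of_mem _ hg
  have hq : ⁅⁅P₀, zpowers (e.symm g)⁆, zpowers (e.symm g)⁆ = ⊥ := by
    rw [show zpowers (e.symm g) = (zpowers g).map e.symm.toMonoidHom from
      (MonoidHom.map_zpowers e.symm.toMonoidHom g).symm, hP₀, ← map_commutator, ← map_commutator, hquad,
      Subgroup.map_bot]
  have hmem : ∀ x : N₀, e x ∈ N := by
    rintro ⟨x, hx⟩
    rw [hmapN] at hx
    obtain ⟨y, hy, rfl⟩ := hx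
    simpa using hy
  let φ : N₀ →* N := (e.toMonoidHom.comp N₀.subtype).codRestrict N hmem
  have hφ : Function.Surjective φ := fun y => by
    refine ⟨⟨e.symm y, hmapN ▸ mem_map_of_mem _ y.2⟩, Subtype.ext ?_⟩
    exact e.apply_symm_apply (y : Y)
  have hle : (centralizer (P₀ : Set X)).subgroupOf N₀ ≤
      ((centralizer (P : Set Y)).subgroupOf N).comap φ := by
    intro x hx
    rw [mem_comap, mem_subgroupOf]
    intro t ht
    have h1 := mem_subgroupOf.mp hx (e.symm t) (mem_map_of_mem _ ht)
    have h2 := congrArg e h1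
    simp only [map_mul, MulEquiv.apply_symm_apply] at h2
    exact h2
  have hsurj : Function.Surjective (QuotientGroup.map _ _ φ hle) := by
    intro y
    obtain ⟨y, rfl⟩ := QuotientGroup.mk_surjective y
    obtain ⟨x, rfl⟩ := hφ y
    exact ⟨QuotientGroup.mk x, rfl⟩
  have := PSolvable.map_pCore_le hsurj
    (mem_map_of_mem (QuotientGroup.map _ _ φ hle) (hX P₀ (hP.map _) (e.symm g) hg₀ hq))
  convert this using 1
  refine congrArg QuotientGroup.mk (Subtype.ext ?_)
  exact (e.apply_symm_apply g).symm

/-- Frobenius: control of strong fusion by a subgroup whose normalizer has a normal `p`-complement. -/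
theorem hasNormalPComplement_of_controlsStrongFusion [hp : Fact p.Prime] {G : Type*} [Group G]
    [Finite G] {U : Subgroup G} (hU : Cfsg.ControlsStrongFusion p U)
    (hN : Cfsg.HasNormalPComplement p (normalizer (U : Set G))) :
    Cfsg.HasNormalPComplement p G := by
  obtain ⟨T, hUT, hT⟩ := hU
  set N := normalizer (U : Set G) with hNdef
  have hTN : (T : Subgroup G) ≤ N := by
    intro t ht
    obtain ⟨x, hx, hxt⟩ := (hT (T : Subgroup G) subset_rfl).2 t (by
      rintro _ ⟨a, ha, rfl⟩
      exact mul_mem (mul_mem ht ha) (inv_mem ht))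
    have hc : x⁻¹ * t ∈ N := by
      refine centralizer_le_normalizer _ ?_
      intro u hu
      have h1 := hxt u (hUT hu)
      calc u * (x⁻¹ * t) = x⁻¹ * (x * u * x⁻¹) * t := by group
        _ = x⁻¹ * (t * u * t⁻¹) * t := by rw [h1]
        _ = x⁻¹ * t * u := by group
    have := N.mul_mem hx hc
    rwa [mul_inv_cancel_left] at this
  set P := T.subtype hTN
  have hinf := (hasNormalPComplement_iff_inf_eq_bot P).mp hN
  have hcard := hasNormalPComplement_iff.mp hN
  haveI := pResidual_normal (p := p) (G := N)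
  refine hasNormalPComplement_of_control T fun x hx g hgx => ?_
  obtain ⟨k, hk, hkx⟩ := (hT {x} (Set.singleton_subset_iff.mpr hx)).2 g (by
    rintro _ ⟨a, rfl, rfl⟩; exact hgx)
  have hk' := hkx x rfl
  have hmem : (⟨k, hk⟩ : N) ∈ ((Cfsg.pResidual p N ⊔ (P : Subgroup N) : Subgroup N) : Set N) := by
    rw [pResidual_sup_sylow P]; trivial
  rw [normal_mul] at hmem
  obtain ⟨n, hn, s, hs, hns⟩ := hmem
  refine ⟨s, hs, ?_⟩
  set y : N := s * ⟨x, hTN hx⟩ * s⁻¹ with hy
  have hyP : y ∈ (P : Subgroup N) :=
    Subgroup.mul_mem _ (Subgroup.mul_mem _ hs hx) (Subgroup.inv_mem _ hs)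
  have hz : n * y * n⁻¹ ∈ (P : Subgroup N) := by
    show ((n * y * n⁻¹ : N) : G) ∈ (T : Subgroup G)
    have : ((n * y * n⁻¹ : N) : G) = k * x * k⁻¹ := by
      have e : (n : G) * s = k := congrArg Subtype.val hns
      rw [← e, hy]; push_cast; group
    rw [this, ← hk']
    exact hgx
  have hcomm : n * y * n⁻¹ * y⁻¹ ∈ Cfsg.pResidual p N ⊓ (P : Subgroup N) :=
    ⟨by
      rw [mul_assoc n y, mul_assoc n]
      exact Subgroup.mul_mem _ hn
        (Subgroup.Normal.conj_mem inferInstance _ (Subgroup.inv_mem _ hn) y),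
      Subgroup.mul_mem _ hz (Subgroup.inv_mem _ hyP)⟩
  rw [hinf, mem_bot, mul_inv_eq_one] at hcomm
  have h2 := congrArg Subtype.val hcomm
  rw [hk']
  have e : (n : G) * s = k := congrArg Subtype.val hns
  rw [← e]
  simp only [hy, Subgroup.coe_mul, Subgroup.coe_inv] at h2
  simpa [mul_assoc] using h2.symm

/-- Strong fusion control at a prescribed Sylow subgroup, from the family form. -/
theorem controlsStrongFusion_of_familyControls [Fact p.Prime] {G : Type u} [Group G] [Finite G]
    {W : ∀ (Q : Type u) [Group Q], Subgroup Q} (hW : IsCharPFunctor.{u} p W) (S : Sylow p G)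
    (h : FamilyControlsStrongFusionIn p {inducedFunctor (G := G) W} ⊤) :
    Cfsg.ControlsStrongFusion p (inducedFunctor W (S : Subgroup G)) := by
  refine ⟨S, Functor.inducedFunctor_le _, fun A hA => ⟨hA, fun g hg => ?_⟩⟩
  obtain ⟨x, hx, hxa⟩ := ConjFunctor.controlsStrongFusionIn_at
    (Functor.inducedFunctor_isConjugacyFunctor hW)
    (ConjFunctor.controls_of_familyControls_singleton h) le_top S.2
    (by rw [relIndex_top_right]; exact S.not_dvd_index) A g trivial hA hg
  exact ⟨x, hx.2, fun a ha => (hxa a ha).symm⟩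

/-- A functor that is normal in every constrained section controls strong fusion. -/
theorem controlsStrongFusion_of_normal_in_constrained [Fact p.Prime] {G : Type u} [Group G]
    [Finite G] {W : ∀ (Q : Type u) [Group Q], Subgroup Q} (hW : IsCharPFunctor.{u} p W)
    (S : Sylow p G)
    (h : ∀ (Y : Type u) [Group Y] [Finite Y], Involves Y G →
      centralizer ((pCore p Y : Subgroup Y) : Set Y) ≤ pCore p Y →
      ∀ T : Sylow p Y, (inducedFunctor W (T : Subgroup Y)).Normal) :
    Cfsg.ControlsStrongFusion p (inducedFunctor W (S : Subgroup G)) := by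
  refine controlsStrongFusion_of_familyControls hW S ?_
  have key := Functor.familyControls_of_constrained_sections (𝓦 := {W})
    (Functor.singleton_charPFunctor hW) G fun Y _ _ hY hc => ?_
  · simpa [Functor.indFam, Set.image_singleton] using key
  · obtain ⟨T⟩ : Nonempty (Sylow p Y) := inferInstance
    refine Functor.familyControls_top_of_famRel T fun B g hB hgB => ?_
    refine Functor.famRel_single hB hgB (W := inducedFunctor W) ⟨W, rfl, rfl⟩ ?_
    rw [normalizer_eq_top_iff.mpr (h Y hY hc T)]
    trivial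

end Cfsg.Agent.Lib.Transfer
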