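import Cfsg.Agent.Lib.Transfer.PResidual
import Cfsg.Agent.Lib.Functor.ChiefFactor
import Cfsg.Agent.Lib.PSolvable.Core

/-!
# Elements of small degree normalizing an abelian `p'`-group

An element `g` with `(g - 1) ^ (p - 1) = 0` commutes with every abelian `p'`-group of units that it
normalizes. Consequently, in a group `X` whose `O^p(X)'` is a `p`-group, an element acting with
degree below `p` on a chief factor of `p`-power order acts trivially on it.
-/

namespace Cfsg.Agent.Lib.Transfer

open Subgroup Cfsg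
open scoped commutatorElement

/-- In a finite reduced ring of characteristic `p`, an endomorphism `σ` of order dividing `p` with
`∏_{0 < j < p} (r - σ^j r) = 0` for all `r` is trivial. -/
theorem ringHom_eq_id_of_prod_sub_eq_zero {R : Type*} [CommRing R] [IsReduced R] [Finite R]
    {p : ℕ} [hp : Fact p.Prime] (hR : (p : R) = 0) (σ : R →+* R) (hσ : ∀ r, σ^[p] r = r)
    (h : ∀ r, ∏ j ∈ Finset.Icc 1 (p - 1), (r - σ^[j] r) = 0) (r : R) : σ r = r := by
  have hmem : σ r - r ∈ sInf {J : Ideal R | J.IsPrime} := by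
    rw [Ideal.mem_sInf]
    intro I hI
    rw [Set.mem_ofPred_eq] at hI
    let K : ℕ → AddSubgroup R := fun j =>
      (Submodule.toAddSubgroup I).comap
        (AddMonoidHom.id R - (σ ^ j : R →+* R).toAddMonoidHom)
    have hK : ∀ j s, s ∈ K j ↔ s - σ^[j] s ∈ I := fun j s => by
      simp [K, RingHom.coe_pow]
    obtain ⟨j, hj, hKj⟩ : ∃ j ∈ Finset.Icc 1 (p - 1), K j = ⊤ := by
      by_contra hne
      push Not at hne
      have hle : ∀ j ∈ Finset.Icc 1 (p - 1), p * Nat.card (K j) ≤ Nat.card R := by
        intro j hj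
        obtain ⟨x, hx⟩ : ∃ x : R, x ∉ K j := by
          by_contra hx
          push Not at hx
          exact hne j hj ((AddSubgroup.eq_top_iff' _).mpr hx)
        have hord : addOrderOf (QuotientAddGroup.mk x : R ⧸ K j) = p := by
          refine addOrderOf_eq_prime ?_ fun h0 => hx ((QuotientAddGroup.eq_zero_iff x).mp h0)
          rw [← QuotientAddGroup.mk_nsmul, nsmul_eq_mul, hR, zero_mul, QuotientAddGroup.mk_zero]
        have hdvd : p ∣ Nat.card (R ⧸ K j) := hord ▸ addOrderOf_dvd_natCard _
        rw [AddSubgroup.card_eq_card_quotient_mul_card_addSubgroup (K j)]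
        exact Nat.mul_le_mul_right _ (Nat.le_of_dvd Nat.card_pos hdvd)
      have hcover : (Set.univ : Set R) ⊆ ⋃ j ∈ Finset.Icc 1 (p - 1), (K j : Set R) := by
        intro s _
        obtain ⟨j, hj, hs⟩ := hI.prod_mem_iff.mp ((h s).symm ▸ I.zero_mem)
        exact Set.mem_biUnion hj ((hK j s).mpr hs)
      have hcard : Nat.card R ≤ ∑ j ∈ Finset.Icc 1 (p - 1), Nat.card (K j) := by
        have h1 := Set.ncard_le_ncard hcover (Set.toFinite _)
        rw [Set.ncard_univ] at h1
        refine h1.trans ((Finset.set_ncard_biUnion_le _ _).trans (le_of_eq ?_))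
        exact Finset.sum_congr rfl fun j _ => (Nat.card_coe_set_eq _).symm
      have hsum := Finset.sum_le_sum hle
      rw [← Finset.mul_sum, Finset.sum_const, Nat.card_Icc, smul_eq_mul] at hsum
      have h2 := Nat.mul_le_mul_left p hcard
      have hp0 := hp.out.pos
      have hR0 : 0 < Nat.card R := Nat.card_pos
      have h3 : (p - 1 + 1 - 1) * Nat.card R < p * Nat.card R :=
        Nat.mul_lt_mul_of_pos_right (by omega) hR0
      omega
    have hall : ∀ s : R, s - σ^[j] s ∈ I := fun s => (hK j s).mp (hKj ▸ AddSubgroup.mem_top s)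
    have hmul : ∀ k : ℕ, r - σ^[j * k] r ∈ I := by
      intro k
      induction k with
      | zero => simp
      | succ k ih =>
        have e : j * (k + 1) = j + j * k := by ring
        rw [e, Function.iterate_add_apply]
        have := I.add_mem ih (hall (σ^[j * k] r))
        rwa [sub_add_sub_cancel] at this
    rw [Finset.mem_Icc] at hj
    obtain ⟨k, hk⟩ := Nat.exists_mul_mod_eq_one_of_coprime
      (Nat.Coprime.symm (hp.out.coprime_iff_not_dvd.mpr fun hd => by
        have := Nat.le_of_dvd (by omega) hd; omega) : j.Coprime p) hp.out.one_lt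
    have hjk : j * k = 1 + p * (j * k / p) := by
      have := Nat.mod_add_div (j * k) p
      omega
    have hper : σ^[j * k] r = σ r := by
      rw [hjk, Function.iterate_add_apply, Function.iterate_one, Function.iterate_mul]
      exact congrArg σ (Function.iterate_fixed (f := σ^[p]) (hσ r) _)
    have := I.neg_mem (hmul k)
    rwa [hper, neg_sub] at this
  rw [← nilradical_eq_sInf, nilradical_eq_zero] at hmem
  exact sub_eq_zero.mp hmem

/-- `(g - 1) ^ (p - 1) = 0` implies that `g` commutes with every abelian `p'`-group of units it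
normalizes. -/
theorem commute_of_pow_sub_one_eq_zero {A : Type*} [Ring A] [Finite A] {p : ℕ} [hp : Fact p.Prime]
    (hA : (p : A) = 0) (g : Aˣ) (hg : ((g : A) - 1) ^ (p - 1) = 0) (M : Subgroup Aˣ)
    (hab : ∀ a ∈ M, ∀ b ∈ M, a * b = b * a) (hco : (Nat.card M).Coprime p)
    (hn : ∀ m ∈ M, g * m * g⁻¹ ∈ M) : ∀ m ∈ M, g * m = m * g := by
  rcases subsingleton_or_nontrivial A with hA' | hA'
  · exact fun m _ => Subsingleton.elim _ _
  haveI hch : CharP A p := (CharP.charP_iff_prime_eq_zero hp.out).mpr hA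
  letI : Algebra (ZMod p) A := ZMod.algebra A p
  have hnorm : ∑ i ∈ Finset.range p, (g : A) ^ i = 0 := by
    have := congrArg (Polynomial.aeval (g : A)) (Functor.geom_sum_eq_sub_one_pow_of_zmod p)
    simpa [hg] using this
  have hgp : g ^ p = 1 := by
    apply Units.ext
    have := geom_sum_mul (g : A) p
    rw [hnorm, zero_mul] at this
    rw [Units.val_pow_eq_pow_val, Units.val_one]
    exact sub_eq_zero.mp this.symm
  let s : Set A := Units.val '' (M : Set Aˣ)
  have hs : ∀ a ∈ s, ∀ b ∈ s, a * b = b * a := by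
    rintro _ ⟨a, ha, rfl⟩ _ ⟨b, hb, rfl⟩
    rw [← Units.val_mul, hab a ha b hb, Units.val_mul]
  letI : CommRing (Subring.closure s) := Subring.closureCommRingOfComm hs
  let R := Subring.closure s
  -- conjugation by `g`
  let c : A →+* A :=
    { toFun := fun a => g * a * (g⁻¹ : Aˣ)
      map_one' := by simp
      map_mul' := fun a b => by simp [mul_assoc]
      map_zero' := by simp
      map_add' := fun a b => by simp [mul_add, add_mul] }
  have hc : ∀ a ∈ R, c a ∈ R := by
    have : R ≤ R.comap c := by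
      refine Subring.closure_le.mpr ?_
      rintro _ ⟨m, hm, rfl⟩
      exact Subring.subset_closure ⟨g * m * g⁻¹, hn m hm, by simp [c]⟩
    exact fun a ha => this ha
  let σ : R →+* R := (c.comp R.subtype).codRestrict R fun a => hc _ a.2
  have hσi : ∀ (i : ℕ) (a : R), ((σ^[i] a : R) : A) * (g : A) ^ i = (g : A) ^ i * a := by
    intro i
    induction i with
    | zero => simp
    | succ i ih =>
      intro a
      rw [Function.iterate_succ_apply']
      show ((g : A) * (σ^[i] a : R) * (g⁻¹ : Aˣ)) * (g : A) ^ (i + 1) = _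
      rw [pow_succ' (g : A) i, ← mul_assoc, mul_assoc _ _ (g : A), Units.inv_mul, mul_one, mul_assoc,
        ih, mul_assoc]
  have hR : (p : R) = 0 := Subtype.ext (by simpa using hA)
  have hσp : ∀ r, σ^[p] r = r := by
    intro r
    have h1 := hσi p r
    rw [← Units.val_pow_eq_pow_val, hgp, Units.val_one, mul_one, one_mul] at h1
    exact Subtype.ext h1
  -- independence
  have hind : ∀ (r : R) (J : Finset ℕ) (a : R), ∑ i ∈ Finset.range p,
      (((∏ j ∈ J, (σ^[i] r - σ^[j] r)) * σ^[i] a : R) : A) * (g : A) ^ i = 0 := by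
    intro r J
    induction J using Finset.induction with
    | empty =>
      intro a
      simp only [Finset.prod_empty, one_mul, hσi]
      rw [← Finset.sum_mul, hnorm, zero_mul]
    | insert j J hj ih =>
      intro a
      have e : ∀ i, ((((∏ k ∈ insert j J, (σ^[i] r - σ^[k] r)) * σ^[i] a : R) : A)) * (g : A) ^ i =
          (((∏ k ∈ J, (σ^[i] r - σ^[k] r)) * σ^[i] (r * a) : R) : A) * (g : A) ^ i -
            (σ^[j] r : A) *
              ((((∏ k ∈ J, (σ^[i] r - σ^[k] r)) * σ^[i] a : R) : A) * (g : A) ^ i) := by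
        intro i
        rw [← mul_assoc, ← Subring.coe_mul, ← sub_mul, ← AddSubgroupClass.coe_sub]
        congr 2
        rw [Finset.prod_insert hj, iterate_map_mul]
        ring
      rw [Finset.sum_congr rfl fun i _ => e i, Finset.sum_sub_distrib, ← Finset.mul_sum, ih, ih,
        mul_zero, sub_zero]
  have hprod : ∀ r : R, ∏ j ∈ Finset.Icc 1 (p - 1), (r - σ^[j] r) = 0 := by
    intro r
    have h1 := hind r (Finset.Icc 1 (p - 1)) 1
    rw [Finset.sum_eq_single 0] at h1
    · simpa using h1
    · intro i hi hi0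
      rw [Finset.prod_eq_zero (i := i)
        (Finset.mem_Icc.mpr ⟨by omega, by have := Finset.mem_range.mp hi; omega⟩) (sub_self _)]
      simp
    · intro h
      exact absurd (Finset.mem_range.mpr hp.out.pos) h
  haveI : CharP R p := (CharP.charP_iff_prime_eq_zero hp.out).mpr hR
  haveI : IsReduced R := by
    set f := (Nat.card M).totient with hf
    have hf0 : 0 < f := Nat.totient_pos.mpr Nat.card_pos
    have hmod : p ^ f ≡ 1 [MOD Nat.card M] := Nat.ModEq.pow_totient hco.symm
    have hfix : ∀ r : R, r ^ p ^ f = r := by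
      intro r
      obtain ⟨a, ha⟩ := r
      induction ha using Subring.closure_induction with
      | mem x hx =>
        obtain ⟨m, hm, rfl⟩ := hx
        apply Subtype.ext
        show (m : A) ^ p ^ f = m
        rw [← Units.val_pow_eq_pow_val]
        congr 1
        have h1 : (⟨m, hm⟩ : M) ^ p ^ f = (⟨m, hm⟩ : M) ^ 1 := by
          rw [← pow_mod_natCard _ (p ^ f), ← pow_mod_natCard _ 1, hmod]
        simpa using congrArg Subtype.val h1
      | zero => exact zero_pow (pow_pos hp.out.pos f).ne'
      | one => exact one_pow _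
      | add x y hx hy ihx ihy =>
        show ((⟨x, hx⟩ : R) + ⟨y, hy⟩) ^ p ^ f = ⟨x, hx⟩ + ⟨y, hy⟩
        rw [add_pow_char_pow, ihx, ihy]
      | neg x hx ih =>
        show (-(⟨x, hx⟩ : R)) ^ p ^ f = -⟨x, hx⟩
        rw [← iterateFrobenius_def p f, map_neg, iterateFrobenius_def, ih]
      | mul x y hx hy ihx ihy =>
        show ((⟨x, hx⟩ : R) * ⟨y, hy⟩) ^ p ^ f = ⟨x, hx⟩ * ⟨y, hy⟩
        rw [mul_pow, ihx, ihy]
    refine ⟨fun x hx => ?_⟩
    obtain ⟨n, hn'⟩ := hx
    have hit : ∀ k : ℕ, x ^ (p ^ f) ^ k = x := by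
      intro k
      induction k with
      | zero => simp
      | succ k ih => rw [pow_succ, pow_mul, ih, hfix]
    rw [← hit n]
    exact pow_eq_zero_of_le (Nat.lt_pow_self (Nat.one_lt_pow hf0.ne' hp.out.one_lt)).le hn'
  intro m hm
  have h1 := congrArg Subtype.val (ringHom_eq_id_of_prod_sub_eq_zero hR σ hσp hprod
    ⟨(m : A), Subring.subset_closure ⟨m, hm, rfl⟩⟩)
  change (g : A) * m * (g⁻¹ : Aˣ) = m at h1
  apply Units.ext
  rw [Units.val_mul, Units.val_mul]
  calc (g : A) * m = (g : A) * m * (g⁻¹ : Aˣ) * g := by rw [mul_assoc _ _ (g : A), Units.inv_mul, mul_one]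
    _ = m * g := by rw [h1]

/-- The endomorphisms of an abelian group given by its automorphisms. -/
def autToEnd (U : Type*) [CommGroup U] : MulAut U →* (AddMonoid.End (Additive U))ˣ :=
  MonoidHom.toHomUnits
    { toFun := fun φ => (MonoidHom.toAdditive φ.toMonoidHom : Additive U →+ Additive U)
      map_one' := rfl
      map_mul' := fun _ _ => rfl }

theorem autToEnd_injective (U : Type*) [CommGroup U] : Function.Injective (autToEnd U) := by
  intro a b hab
  ext u
  exact DFunLike.congr_fun (congrArg Units.val hab) (Additive.ofMul u)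

/-- A normal subgroup inducing a `p`-group on a minimal normal `p`-subgroup centralizes it. -/
theorem le_centralizer_of_isPGroup_map {X : Type*} [Group X] [Finite X] {p : ℕ} [hp : Fact p.Prime]
    {U : Subgroup X} [hUn : U.Normal] (hU : IsPGroup p U)
    (hmin : ∀ N : Subgroup X, N.Normal → N ≤ U → N = ⊥ ∨ N = U)
    {P : Subgroup X} [P.Normal] (hP : IsPGroup p (P.map (MulAut.conjNormal : X →* MulAut U))) :
    P ≤ centralizer (U : Set X) := by
  by_cases hbot : U = ⊥
  · intro x _
    subst hbot
    intro y hy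
    rw [SetLike.mem_coe, mem_bot] at hy
    simp [hy]
  have hdvd : p ∣ Nat.card U := by
    haveI := (Subgroup.nontrivial_iff_ne_bot U).mpr hbot
    obtain ⟨n, hn⟩ := IsPGroup.iff_card.mp hU
    rw [hn]
    refine dvd_pow_self p fun h0 => ?_
    have := Finite.one_lt_card (α := U)
    rw [hn, h0, pow_zero] at this
    exact lt_irrefl 1 this
  letI : MulAction (P.map (MulAut.conjNormal : X →* MulAut U)) U :=
    MulAction.compHom U (P.map (MulAut.conjNormal : X →* MulAut U)).subtype
  have h1 : (1 : U) ∈ MulAction.fixedPoints (P.map (MulAut.conjNormal : X →* MulAut U)) U :=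
    fun φ => map_one (φ : MulAut U)
  obtain ⟨u, hu, hu1⟩ := hP.exists_fixed_point_of_prime_dvd_card_of_fixed_point U hdvd h1
  have hne : U ⊓ centralizer (P : Set X) ≠ ⊥ := by
    intro h
    have hmem : (u : X) ∈ U ⊓ centralizer (P : Set X) := by
      refine ⟨u.2, fun x hx => ?_⟩
      have hfix := congrArg Subtype.val (hu ⟨MulAut.conjNormal x, mem_map_of_mem _ hx⟩)
      change ((MulAut.conjNormal x u : U) : X) = u at hfix
      rw [MulAut.conjNormal_apply] at hfix
      calc x * (u : X) = x * u * x⁻¹ * x := by group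
        _ = u * x := by rw [hfix]
    rw [h, mem_bot] at hmem
    exact hu1 (Subtype.ext hmem).symm
  rcases hmin (U ⊓ centralizer (P : Set X)) inferInstance inf_le_left with h | h
  · exact absurd h hne
  · intro x hx u hu
    have : u ∈ U ⊓ centralizer (P : Set X) := h.symm ▸ hu
    exact (this.2 x hx).symm

/-- A commutative finite group generated by elements of order prime to `p` has order prime to `p`. -/
theorem coprime_card_of_closure {G : Type*} [Group G] [Finite G] {p : ℕ} [hp : Fact p.Prime]
    {M : Subgroup G} (hab : ∀ a ∈ M, ∀ b ∈ M, a * b = b * a) {s : Set G} (hsM : M = closure s)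
    (hs : ∀ x ∈ s, (orderOf x).Coprime p) : (Nat.card M).Coprime p := by
  refine Nat.Coprime.symm (hp.out.coprime_iff_not_dvd.mpr ?_)
  rw [not_dvd_card_iff_forall_coprime]
  intro x hx
  subst hsM
  induction hx using Subgroup.closure_induction with
  | mem x hx => exact hs x hx
  | one => simp
  | mul a b ha hb iha ihb =>
    exact ((iha.mul_left ihb).coprime_dvd_left
      ((Commute.orderOf_mul_dvd_lcm (hab a ha b hb)).trans (Nat.lcm_dvd_mul _ _)))
  | inv a _ iha => rwa [orderOf_inv]

/-- If `O^p(X)'` is a `p`-group, an element of degree less than `p` on a minimal normal `p`-subgroup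
centralizes it. -/
theorem mem_centralizer_of_smallDegree {X : Type*} [Group X] [Finite X] {p : ℕ} [hp : Fact p.Prime]
    (hX : IsPGroup p ↥(⁅Cfsg.pResidual p X, Cfsg.pResidual p X⁆ : Subgroup X))
    {U : Subgroup X} [hUn : U.Normal] (hU : IsPGroup p U)
    (hmin : ∀ N : Subgroup X, N.Normal → N ≤ U → N = ⊥ ∨ N = U)
    (hab : ⁅U, U⁆ = ⊥) (hexp : ∀ x ∈ U, x ^ p = 1) {g : X}
    (hg : iterCommutator U (zpowers g) (p - 1) = ⊥) : g ∈ centralizer (U : Set X) := by
  haveI : IsMulCommutative U := ⟨⟨fun a b => Subtype.ext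
    (commutatorElement_eq_one_iff_mul_comm.mp
      (mem_bot.mp (hab ▸ commutator_mem_commutator a.2 b.2)))⟩⟩
  letI : CommGroup U := { mul_comm := fun a b => mul_comm' a b }
  let A := AddMonoid.End (Additive U)
  haveI : Finite A := Finite.of_injective (fun f : A => (f : Additive U → Additive U))
    DFunLike.coe_injective
  have hpA : (p : A) = 0 := by
    apply DFunLike.ext
    intro a
    show p • a = 0
    exact Additive.toMul.injective (Subtype.ext (hexp _ (Additive.toMul a).2))
  let Φ : X →* Aˣ := (autToEnd U).comp MulAut.conjNormal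
  have hΦ : ∀ (x : X) (a : Additive U),
      ((Additive.toMul (((Φ x : Aˣ) : A) a) : U) : X) = x * (Additive.toMul a : U) * x⁻¹ :=
    fun x a => MulAut.conjNormal_apply x (Additive.toMul a)
  have hdeg : ((Φ g : A) - 1) ^ (p - 1) = 0 := by
    have hstep : ∀ (n : ℕ) (a : Additive U),
        ((Additive.toMul ((((Φ g : A) - 1) ^ n) a) : U) : X) ∈ iterCommutator U (zpowers g) n := by
      intro n
      induction n with
      | zero => exact fun a => (Additive.toMul a).2
      | succ n ih =>
        intro a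
        rw [pow_succ']
        have key := Functor.commutator_mem_iterCommutator (ih a) (mem_zpowers g)
        show ((Additive.toMul ((Φ g : A) ((((Φ g : A) - 1) ^ n) a) -
          (((Φ g : A) - 1) ^ n) a) : U) : X) ∈ iterCommutator U (zpowers g) (n + 1)
        rw [toMul_sub, Subgroup.coe_div, hΦ, div_eq_mul_inv]
        exact key
    apply DFunLike.ext
    intro a
    have := hstep (p - 1) a
    rw [hg, mem_bot] at this
    exact Additive.toMul.injective (Subtype.ext this)
  -- the image of `O^p(X)`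
  set K := Cfsg.pResidual p X with hK
  haveI hKn : K.Normal := pResidual_normal
  have hD : ⁅K, K⁆ ≤ centralizer (U : Set X) :=
    le_centralizer_of_isPGroup_map hU hmin (hX.map _)
  have hker : ∀ x : X, Φ x = 1 ↔ x ∈ centralizer (U : Set X) := by
    intro x
    constructor
    · intro h u hu
      have h' : MulAut.conjNormal x = (1 : MulAut U) :=
        autToEnd_injective U (h.trans (map_one _).symm)
      have hx := congrArg (fun φ : MulAut U => ((φ ⟨u, hu⟩ : U) : X)) h'
      simp only [MulAut.conjNormal_apply, MulAut.one_apply] at hx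
      calc u * x = x * u * x⁻¹ * x := by rw [hx]
        _ = x * u := by group
    · intro h
      apply Units.ext
      apply DFunLike.ext
      intro a
      apply Additive.toMul.injective
      apply Subtype.ext
      rw [hΦ, ← h _ (Additive.toMul a).2, mul_inv_cancel_right]
      rfl
  set M := K.map Φ with hM
  have hMab : ∀ a ∈ M, ∀ b ∈ M, a * b = b * a := by
    rintro _ ⟨a, ha, rfl⟩ _ ⟨b, hb, rfl⟩
    rw [← commutatorElement_eq_one_iff_mul_comm, ← map_commutatorElement, hker]
    exact hD (commutator_mem_commutator ha hb)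
  have hMco : (Nat.card M).Coprime p :=
    coprime_card_of_closure hMab (MonoidHom.map_closure Φ _)
      (by
        rintro _ ⟨x, hx, rfl⟩
        exact Nat.Coprime.coprime_dvd_left (orderOf_map_dvd Φ x) hx)
  have hcomm := commute_of_pow_sub_one_eq_zero hpA (Φ g) hdeg M hMab hMco (by
    rintro _ ⟨a, ha, rfl⟩
    exact ⟨g * a * g⁻¹, hKn.conj_mem a ha g, by simp⟩)
  -- the subgroup of elements commuting with `M`
  let C : Subgroup X := (centralizer (M : Set Aˣ)).comap Φ
  have hgC : g ∈ C := fun m hm => (hcomm m hm).symm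
  haveI hCn : C.Normal := by
    refine ⟨fun x hx y => ?_⟩
    rintro _ ⟨a, ha, rfl⟩
    have ha' : Φ (y⁻¹ * a * y) ∈ M := mem_map_of_mem Φ (by
      simpa using hKn.conj_mem a ha y⁻¹)
    have h1 := hx _ ha'
    simp only [map_mul, map_inv] at h1 ⊢
    calc Φ a * (Φ y * Φ x * (Φ y)⁻¹) = Φ y * ((Φ y)⁻¹ * Φ a * Φ y * Φ x) * (Φ y)⁻¹ := by group
      _ = Φ y * (Φ x * ((Φ y)⁻¹ * Φ a * Φ y)) * (Φ y)⁻¹ := by rw [h1]
      _ = Φ y * Φ x * (Φ y)⁻¹ * Φ a := by group
  -- `p`-elements of the image of `C`
  set Y := C.map Φ with hY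
  have hYM : ∀ y ∈ Y, ∀ m ∈ M, y * m = m * y := by
    rintro _ ⟨x, hx, rfl⟩ m hm
    exact (hx m hm).symm
  have hpow : ∀ y ∈ Y, ∃ k : ℕ, y ^ p ^ k ∈ M := by
    rintro _ ⟨x, -, rfl⟩
    obtain ⟨k, hk⟩ := exists_pow_mem_pResidual (p := p) x
    exact ⟨k, by rw [← map_pow]; exact mem_map_of_mem Φ hk⟩
  obtain ⟨P₀⟩ : Nonempty (Sylow p Y) := Sylow.nonempty
  haveI hP₀ : (P₀ : Subgroup Y).Normal := by
    rw [← normalizer_eq_top_iff, eq_top_iff, ← pResidual_sup_sylow P₀, sup_le_iff]
    refine ⟨pResidual_le_iff.mpr fun y hy => ?_, le_normalizer⟩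
    obtain ⟨k, hk⟩ := hpow y y.2
    have hyM : (y : Aˣ) ∈ M := by
      obtain ⟨j, hj⟩ := exists_pow_eq_self_of_coprime
        (x := (y : Aˣ)) (n := p ^ k) (by rw [orderOf_coe]; exact (hy.pow_right k).symm)
      rw [← hj]
      exact M.pow_mem hk j
    rw [mem_normalizer_iff]
    intro z
    have : y * z * y⁻¹ = z := by
      rw [mul_inv_eq_iff_eq_mul]
      exact Subtype.ext (hYM z z.2 y hyM).symm
    rw [this]
  let P : Subgroup X := ((P₀ : Subgroup Y).map Y.subtype).comap Φ
  haveI : P.Normal := by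
    refine ⟨fun x hx y => ?_⟩
    obtain ⟨z, hz, hzx⟩ := hx
    change (z : Aˣ) = Φ x at hzx
    have hmem : ∀ w : Y, Φ y * w * (Φ y)⁻¹ ∈ Y := by
      rintro ⟨_, c, hc, rfl⟩
      exact ⟨y * c * y⁻¹, hCn.conj_mem c hc y, by simp⟩
    let α : Y →* Y :=
      ((MulAut.conj (Φ y)).toMonoidHom.comp Y.subtype).codRestrict Y (fun w => hmem w)
    obtain ⟨R, hR⟩ := (P₀.2.map α).exists_le_sylow
    have hR' : R = P₀ := by
      haveI := Sylow.unique_of_normal P₀ hP₀
      exact Subsingleton.elim _ _
    have hα : α z ∈ (P₀ : Subgroup Y) := hR' ▸ hR (mem_map_of_mem α hz)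
    refine mem_comap.mpr ⟨α z, hα, ?_⟩
    show Φ y * z * (Φ y)⁻¹ = _
    rw [hzx, map_mul, map_mul, map_inv]
  have hPmap : IsPGroup p (P.map (MulAut.conjNormal : X →* MulAut U)) := by
    refine IsPGroup.of_equiv ?_ (equivMapOfInjective _ _ (autToEnd_injective U)).symm
    rw [map_map]
    exact (P₀.2.map _).to_le (map_comap_le _ _)
  refine le_centralizer_of_isPGroup_map hU hmin hPmap ?_
  have hgp : Φ g ^ p = 1 := by
    apply Units.ext
    rw [Units.val_pow_eq_pow_val, Units.val_one]
    rcases subsingleton_or_nontrivial A with hA | hA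
    · exact Subsingleton.elim _ _
    haveI : CharP A p := (CharP.charP_iff_prime_eq_zero hp.out).mpr hpA
    have h1 : ((Φ g : A) - 1) ^ p = (Φ g : A) ^ p - 1 := by
      rw [sub_pow_char_of_commute (R := A) p (Commute.one_right _), one_pow]
    have h2 : ((Φ g : A) - 1) ^ p = 0 :=
      pow_eq_zero_of_le (Nat.sub_le p 1) hdeg
    rw [h1] at h2
    exact sub_eq_zero.mp h2
  let gY : Y := ⟨Φ g, mem_map_of_mem Φ hgC⟩
  have hgY : IsPGroup p (zpowers gY) := by
    intro x
    obtain ⟨n, hn⟩ := mem_zpowers_iff.mp x.2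
    refine ⟨1, Subtype.ext (Subtype.ext ?_)⟩
    rw [pow_one, coe_pow, ← hn, coe_pow, coe_zpow, ← zpow_natCast, ← zpow_mul, mul_comm, zpow_mul,
      zpow_natCast]
    show (Φ g ^ p) ^ n = 1
    rw [hgp, one_zpow]
  obtain ⟨R, hR⟩ := hgY.exists_le_sylow
  have hR' : R = P₀ := by
    haveI := Sylow.unique_of_normal P₀ hP₀
    exact Subsingleton.elim _ _
  exact mem_comap.mpr ⟨gY, hR' ▸ hR (mem_zpowers gY), rfl⟩

end Cfsg.Agent.Lib.Transfer
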