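import Cfsg.Agent.Lib.SylowGraph.Basic
import Cfsg.Agent.Lib.Coprime.Generation
import Cfsg.Agent.Lib.Functor.Core
import Cfsg.Agent.Lib.PSolvable.Core

/-!
# The least normal subgroup of order divisible by `p` when the Sylow graph is disconnected
-/

namespace Cfsg.Agent.Lib.Transfer

open Subgroup
open Cfsg.Agent.Lib.SylowGraph
open scoped commutatorElement

variable {G : Type*} [Group G] [Finite G] {p : ℕ} [hp : Fact p.Prime]

theorem mem_compStab_of_normalizes {S : Sylow p G} {Q : Subgroup G} (hQS : Q ≤ (S : Subgroup G))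
    (hQ : Q ≠ ⊥) {g : G} (hg : g ∈ normalizer (Q : Set G)) : g ∈ compStab S := by
  obtain ⟨x, hx, hx1⟩ := (bot_or_exists_ne_one Q).resolve_left hQ
  show Linked S (g • S)
  refine linked_of_mem hx1 (hQS hx) ?_
  rw [Sylow.coe_subgroup_smul]
  have h1 : g⁻¹ * x * g ∈ (S : Subgroup G) := hQS ((mem_normalizer_iff''.mp hg x).mp hx)
  have h2 := Subgroup.smul_mem_pointwise_smul (g⁻¹ * x * g) (MulAut.conj g) _ h1
  simpa [MulAut.smul_def, mul_assoc] using h2

/-- Two normal subgroups of order divisible by `p` whose intersection is a `p'`-group force the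
Sylow graph to be connected. -/
theorem connected_of_normal_inf {X Y : Subgroup G} [hXn : X.Normal] [hYn : Y.Normal]
    (hX : p ∣ Nat.card X) (hY : p ∣ Nat.card Y) (hM : ¬ p ∣ Nat.card ↥(X ⊓ Y)) :
    Cfsg.IsSylowChainConnected p G := by
  obtain ⟨S⟩ : Nonempty (Sylow p G) := inferInstance
  set L := compStab S with hL
  have hS := Functor.isSylowIn_top_of_sylow S
  have hcop : (Nat.card ↥(X ⊓ Y)).Coprime p := ((hp.out.coprime_iff_not_dvd).mpr hM).symm
  have hSM : (S : Subgroup G) ⊓ (X ⊓ Y) = ⊥ :=
    PSolvable.inf_eq_bot_of_isPGroup_of_coprime S.2 hcop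
  have hne : ∀ Z : Subgroup G, Z.Normal → p ∣ Nat.card Z → (S : Subgroup G) ⊓ Z ≠ ⊥ := by
    intro Z _ hZ he
    have := (hS.inf_normal le_top (fun g _ => by
      rw [normalizer_eq_top_iff.mpr ‹Z.Normal›]; exact mem_top g) : Functor.IsSylowIn p Z _).not_dvd
    rw [he, relIndex_bot_left] at this
    exact this hZ
  obtain ⟨a, ha, hao⟩ := exists_orderOf_mem (Q := (S : Subgroup G) ⊓ X) (S.2.to_le inf_le_left)
    (hne X hXn hX)
  obtain ⟨b, hb, hbo⟩ := exists_orderOf_mem (Q := (S : Subgroup G) ⊓ Y) (S.2.to_le inf_le_left)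
    (hne Y hYn hY)
  have hab : Commute a b := by
    rw [← commutatorElement_eq_one_iff_commute]
    have hmem : ⁅a, b⁆ ∈ (S : Subgroup G) ⊓ (X ⊓ Y) := by
      refine ⟨?_, ?_, ?_⟩
      · rw [commutatorElement_def]
        exact S.1.mul_mem (S.1.mul_mem (S.1.mul_mem ha.1 hb.1) (S.1.inv_mem ha.1))
          (S.1.inv_mem hb.1)
      · rw [commutatorElement_def, mul_assoc a, mul_assoc a]
        exact X.mul_mem ha.2 (by
          simpa [mul_assoc] using hXn.conj_mem _ (X.inv_mem ha.2) b)
      · rw [commutatorElement_def]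
        exact Y.mul_mem (hYn.conj_mem b hb.2 a) (Y.inv_mem hb.2)
    rwa [hSM, mem_bot] at hmem
  have hb1 : b ≠ 1 := fun h => by
    rw [h, orderOf_one] at hbo; exact hp.out.one_lt.ne hbo
  have ha1 : a ≠ 1 := fun h => by
    rw [h, orderOf_one] at hao; exact hp.out.one_lt.ne hao
  have hab' : a ∉ zpowers b := by
    intro h
    have hmem : a ∈ (S : Subgroup G) ⊓ (X ⊓ Y) := ⟨ha.1, ha.2, zpowers_le.mpr hb.2 h⟩
    rw [hSM, mem_bot] at hmem
    exact ha1 hmem
  have hEn : closure ({a, b} : Set G) ≤ normalizer ((X ⊓ Y : Subgroup G) : Set G) := fun g _ => by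
    rw [normalizer_eq_top_iff.mpr inferInstance]; exact mem_top g
  have hES : closure ({a, b} : Set G) ≤ (S : Subgroup G) :=
    (closure_le _).mpr (by rintro g (rfl | rfl); exacts [ha.1, hb.1])
  have hML : X ⊓ Y ≤ L := by
    refine Coprime.le_of_pair hp.out hcop.symm hEn hab (hao ▸ pow_orderOf_eq_one a)
      (hbo ▸ pow_orderOf_eq_one b) hb1 hab' fun x hx hx1 => ?_
    intro c hc
    refine mem_compStab_of_normalizes (zpowers_le.mpr (hES hx))
      (by rwa [Ne, zpowers_eq_bot]) (centralizer_le_normalizer _ ?_)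
    exact fun y hy => by
      obtain ⟨k, rfl⟩ := mem_zpowers_iff.mp hy
      exact ((show Commute x c from hc.2 x rfl).zpow_left k)
  set Pb := (S : Subgroup G) ⊓ Y
  have hXL : X ≤ L := by
    intro x hx
    set W := (X ⊓ Y) ⊔ Pb
    have hle : Functor.cj x Pb ≤ W := by
      rw [Functor.cj_le_iff]
      intro t ht
      have h1 : x * t * x⁻¹ * t⁻¹ ∈ X ⊓ Y :=
        ⟨by
          rw [mul_assoc x t, mul_assoc x]
          exact X.mul_mem hx (hXn.conj_mem _ (X.inv_mem hx) t),
          Y.mul_mem (hYn.conj_mem t ht.2 x) (Y.inv_mem ht.2)⟩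
      have h2 := W.mul_mem (mem_sup_left (T := Pb) h1) (mem_sup_right ht)
      simpa using h2
    obtain ⟨T, hT, hPT⟩ := Functor.exists_isSylowIn (p := p) (le_sup_right : Pb ≤ W)
      (S.2.to_le inf_le_left)
    have hTeq : T = Pb := by
      refine le_antisymm (fun t ht => ?_) hPT
      have htW : t ∈ ((W : Subgroup G) : Set G) := hT.le ht
      rw [coe_mul_of_right_le_normalizer_left _ _ (fun g _ => by
        rw [normalizer_eq_top_iff.mpr inferInstance]; exact mem_top g)] at htW
      obtain ⟨m, hm, s, hs, rfl⟩ := htW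
      have hmT : m ∈ T := by
        have := T.mul_mem ht (T.inv_mem (hPT hs))
        simpa using this
      have : m ∈ T ⊓ (X ⊓ Y) := ⟨hmT, hm⟩
      rw [PSolvable.inf_eq_bot_of_isPGroup_of_coprime hT.isPGroup hcop, mem_bot] at this
      simpa [this] using hs
    subst hTeq
    obtain ⟨w, hw, hwle⟩ := hT.exists_cj_le hle (Functor.isPGroup_cj hT.isPGroup)
    rw [Functor.cj_cj] at hwle
    have hwx : w * x ∈ L := mem_compStab_of_normalizes inf_le_left (hne Y hYn hY)
      (Functor.mem_normalizer_of_cj_le hwle)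
    have hWL : W ≤ L := sup_le hML fun t ht =>
      mem_compStab_of_normalizes le_rfl
        (fun he => hne Y hYn hY (le_bot_iff.mp (he ▸ inf_le_left))) (le_normalizer ht.1)
    have := L.mul_mem (L.inv_mem (hWL hw)) hwx
    rwa [inv_mul_cancel_left] at this
  have hTop : ∀ g : G, g ∈ L := by
    intro g
    have hsy : Functor.IsSylowIn p X ((S : Subgroup G) ⊓ X) := hS.inf_normal le_top (fun g _ => by
      rw [normalizer_eq_top_iff.mpr hXn]; exact mem_top g)
    obtain ⟨h, hh, hle⟩ := hsy.exists_cj_le (Q := Functor.cj g ((S : Subgroup G) ⊓ X))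
      (Functor.cj_le_iff.mpr fun t ht => hXn.conj_mem t ht.2 g)
      (Functor.isPGroup_cj hsy.isPGroup)
    rw [Functor.cj_cj] at hle
    have h2 := mem_compStab_of_normalizes inf_le_left (hne X hXn hX)
      (Functor.mem_normalizer_of_cj_le hle)
    have := L.mul_mem (L.inv_mem (hXL hh)) h2
    rwa [inv_mul_cancel_left] at this
  have hlink : ∀ T : Sylow p G, Linked S T := by
    intro T
    obtain ⟨g, hg⟩ := MulAction.exists_smul_eq G S T
    rw [← hg]
    exact hTop g
  exact connected_of_linked fun T U => (hlink T).symm.trans (hlink U)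

/-- When the Sylow graph is disconnected there is a least normal subgroup of order divisible by
`p`. -/
theorem exists_least_normal_dvd (hc : ¬ Cfsg.IsSylowChainConnected p G) (hdvd : p ∣ Nat.card G) :
    ∃ X : Subgroup G, X.Normal ∧ p ∣ Nat.card X ∧
      ∀ Y : Subgroup G, Y.Normal → p ∣ Nat.card Y → X ≤ Y := by
  obtain ⟨X, ⟨hXn, hXp⟩, hmin⟩ :=
    (Set.toFinite {X : Subgroup G | X.Normal ∧ p ∣ Nat.card X}).exists_minimalFor
      (fun X : Subgroup G => Nat.card X) _ ⟨⊤, inferInstance, by rwa [card_top]⟩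
  refine ⟨X, hXn, hXp, fun Y hYn hYp => ?_⟩
  by_contra hne
  refine hc (connected_of_normal_inf hXp hYp fun hd => hne ?_)
  have hle : Nat.card X ≤ Nat.card ↥(X ⊓ Y) :=
    hmin ⟨inferInstance, hd⟩ (card_le_of_le inf_le_left)
  exact inf_eq_left.mp (eq_of_le_of_card_ge inf_le_left hle)

omit [Finite G] in
/-- Connectedness of the Sylow graph is invariant under isomorphisms. -/
theorem connected_of_mulEquiv [Finite G] {H : Type*} [Group H] [Finite H] (e : G ≃* H)
    (h : Cfsg.IsSylowChainConnected p G) : Cfsg.IsSylowChainConnected p H := by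
  have hinj : Function.Injective fun S : Sylow p G =>
      (S.mapSurjective (f := e.toMonoidHom) e.surjective : Sylow p H) := by
    intro S T hST
    have := congrArg (fun U : Sylow p H => (U : Subgroup H)) hST
    simp only [Sylow.coe_mapSurjective] at this
    exact Sylow.ext (map_injective e.injective this)
  have key : ∀ S T : Sylow p G, Linked S T →
      Linked (S.mapSurjective (f := e.toMonoidHom) e.surjective)
        (T.mapSurjective (f := e.toMonoidHom) e.surjective) := by
    intro S T hST
    induction hST with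
    | refl => exact Relation.ReflTransGen.refl
    | tail _ hab ih =>
      refine ih.tail ⟨fun he => hab.1 (hinj he), fun he => hab.2 ?_⟩
      change Subgroup.map e.toMonoidHom _ ⊓ Subgroup.map e.toMonoidHom _ = ⊥ at he
      rw [← Subgroup.map_inf _ _ _ e.injective,
        map_eq_bot_iff_of_injective _ e.injective] at he
      exact he
  have back : ∀ S : Sylow p H,
      (S.mapSurjective (f := e.symm.toMonoidHom) e.symm.surjective).mapSurjective
        (f := e.toMonoidHom) e.surjective = S := by
    intro S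
    apply Sylow.ext
    show ((S : Subgroup H).map e.symm.toMonoidHom).map e.toMonoidHom = S
    rw [map_map]
    convert Subgroup.map_id _
    ext x
    simp
  refine connected_of_linked fun S T => ?_
  rw [← back S, ← back T]
  exact key _ _ (linked_of_connected h _ _)

end Cfsg.Agent.Lib.Transfer
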